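import Groth.Agent.EtFound.CechInjGen
import Mathlib.Algebra.Category.ModuleCat.Presheaf.Free
import Mathlib.Algebra.Category.ModuleCat.Presheaf.Abelian

/-!
# Injective presheaves of modules have no higher Čech cohomology, arbitrary universes
-/

set_option backward.isDefEq.respectTransparency false
set_option backward.isDefEq.respectTransparency.types false

universe w v u

open CategoryTheory CategoryTheory.Limits Opposite

namespace Groth.Agent.AlgSpDer.CechInjMod

open Groth.Agent.EtFound.CechInjGen

variable {C : Type u} [Category.{v} C] [LocallySmall.{w} C] {U : C} [HasFiniteProducts (Over U)]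
  {ι : Type w} (Uf : ι → Over U) {R : Cᵒᵖ ⥤ RingCat.{w}}

/-- The presheaf of tuples. -/
noncomputable def tupPsh (n : ℕ) : Cᵒᵖ ⥤ Type w where
  obj T := Tup Uf n T.unop
  map f := ↾ fun p => Tup.res f.unop p
  map_id T := by
    refine ConcreteCategory.hom_ext _ _ fun p => ?_
    exact Subtype.ext (funext fun k => Lift.res_id _)
  map_comp f g := by
    refine ConcreteCategory.hom_ext _ _ fun p => ?_
    exact Subtype.ext (funext fun k => (Lift.res_comp _ _ _).symm)

variable (R)

/-- The free presheaf of modules on tuples. -/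
noncomputable abbrev FR (n : ℕ) : PresheafOfModules.{w} R := PresheafOfModules.freeObj (tupPsh Uf n)

variable {Uf R}

/-- The generator of a tuple. -/
noncomputable abbrev gen {n : ℕ} {T : C} (p : Tup Uf n T) : ↥((FR Uf R n).obj (op T)) :=
  ModuleCat.freeMk p

theorem gen_res {n : ℕ} {T T' : C} (f : T' ⟶ T) (p : Tup Uf n T) :
    (FR Uf R n).map f.op (gen p) = gen (p.res f) := by
  exact (ModuleCat.freeDesc_apply _ p).trans rfl

/-- A natural family of sections gives a map out of the free presheaf. -/
noncomputable def descR {n : ℕ} {P : PresheafOfModules.{w} R} (φ : ∀ T, Tup Uf n T → P.obj (op T))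
    (hφ : ∀ (T T' : C) (f : T' ⟶ T) (p : Tup Uf n T), φ T' (p.res f) = P.map f.op (φ T p)) :
    FR Uf R n ⟶ P :=
  PresheafOfModules.freeObjDesc
    { app := fun T => ↾ fun p => φ T.unop p
      naturality := fun T T' f => by
        ext p
        exact hφ _ _ f.unop p }

theorem descR_gen {n : ℕ} {P : PresheafOfModules.{w} R} (φ : ∀ T, Tup Uf n T → P.obj (op T))
    (hφ : ∀ (T T' : C) (f : T' ⟶ T) (p : Tup Uf n T), φ T' (p.res f) = P.map f.op (φ T p))
    (T : C) (p : Tup Uf n T) : (descR φ hφ).app (op T) (gen p) = φ T p := by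
  exact (ModuleCat.freeDesc_apply _ p).trans rfl

/-- The linear extension of an integral chain. -/
noncomputable def lin {n : ℕ} (T : C) : FreeAbelianGroup (Tup Uf n T) →+ ↥((FR Uf R n).obj (op T)) :=
  FreeAbelianGroup.lift gen

theorem lin_of {n : ℕ} {T : C} (p : Tup Uf n T) : lin (R := R) T (FreeAbelianGroup.of p) = gen p :=
  FreeAbelianGroup.lift_apply_of _ _

theorem lin_natural {n : ℕ} {T T' : C} (f : T' ⟶ T) (z : FreeAbelianGroup (Tup Uf n T)) :
    (FR Uf R n).map f.op (lin T z) = lin T' (((F Uf n).map f.op).hom z) := by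
  suffices h : (AddMonoidHom.mk' (fun z => (FR Uf R n).map f.op (lin (R := R) T z)) fun a b => by
      simp only [map_add]) = (lin T').comp ((F Uf n).map f.op).hom from DFunLike.congr_fun h z
  refine FreeAbelianGroup.lift_ext _ _ fun p => ?_
  show (FR Uf R n).map f.op (lin T (FreeAbelianGroup.of p)) = lin T' (((F Uf n).map f.op).hom (FreeAbelianGroup.of p))
  rw [lin_of, gen_res]
  exact ((congrArg (lin T') (FreeAbelianGroup.lift_apply_of _ _)).trans (lin_of _)).symm

variable (Uf R)

/-- The differential. -/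
noncomputable def ddR (n : ℕ) : FR Uf R (n + 1) ⟶ FR Uf R n :=
  descR (fun T p => lin T (bdry Uf p)) fun T T' f p => by
    refine Eq.trans ?_ (lin_natural f _).symm
    refine congrArg (lin T') ?_
    refine Eq.trans (dd_of (p.res f)).symm ?_
    refine Eq.trans ?_ (congrArg (((F Uf n).map f.op).hom) (dd_of p))
    refine Eq.trans ?_ (ConcreteCategory.congr_hom ((dd Uf n).naturality f.op) (FreeAbelianGroup.of p))
    exact congrArg ((dd Uf n).app (op T')).hom (FreeAbelianGroup.lift_apply_of _ _).symm

/-- The contracting homotopy. -/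
noncomputable def hR (n : ℕ) (T : C) :
    ↥((FR Uf R n).obj (op T)) →ₗ[R.obj (op T)] ↥((FR Uf R (n + 1)).obj (op T)) :=
  (ModuleCat.freeDesc (↾ fun p : Tup Uf n T => gen (R := R) (cone p))).hom

variable {Uf R}

theorem hR_gen {n : ℕ} {T : C} (p : Tup Uf n T) : hR Uf R n T (gen p) = gen (cone p) := by
  exact (ModuleCat.freeDesc_apply _ p).trans rfl

theorem ddR_lin {n : ℕ} {T : C} (z : FreeAbelianGroup (Tup Uf (n + 1) T)) :
    (ddR Uf R n).app (op T) (lin T z) = lin T (((dd Uf n).app (op T)).hom z) := by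
  suffices h : (AddMonoidHom.mk' (fun z => (ddR Uf R n).app (op T) (lin (R := R) T z)) fun a b => by
      simp only [map_add]) = (lin T).comp ((dd Uf n).app (op T)).hom from DFunLike.congr_fun h z
  refine FreeAbelianGroup.lift_ext _ _ fun p => ?_
  show (ddR Uf R n).app (op T) (lin T (FreeAbelianGroup.of p)) = lin T (((dd Uf n).app (op T)).hom (FreeAbelianGroup.of p))
  rw [lin_of, dd_of]
  exact descR_gen _ _ T p

theorem hR_lin {n : ℕ} {T : C} (z : FreeAbelianGroup (Tup Uf n T)) :
    hR Uf R n T (lin T z) = lin T (htpy Uf n T z) := by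
  suffices h : (hR Uf R n T).toAddMonoidHom.comp (lin T) = (lin T).comp (htpy Uf n T) from
    DFunLike.congr_fun h z
  refine FreeAbelianGroup.lift_ext _ _ fun p => ?_
  show hR Uf R n T (lin T (FreeAbelianGroup.of p)) = lin T (htpy Uf n T (FreeAbelianGroup.of p))
  rw [lin_of, hR_gen, htpy, FreeAbelianGroup.lift_apply_of, lin_of]

theorem ddR_hR {n : ℕ} {T : C} (x : ↥((FR Uf R (n + 1)).obj (op T))) :
    (ddR Uf R (n + 1)).app (op T) (hR Uf R (n + 1) T x) + hR Uf R n T ((ddR Uf R n).app (op T) x) = x := by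
  suffices h : ((ddR Uf R (n + 1)).app (op T)).hom ∘ₗ hR Uf R (n + 1) T +
      hR Uf R n T ∘ₗ ((ddR Uf R n).app (op T)).hom = LinearMap.id from LinearMap.congr_fun h x
  refine congrArg ModuleCat.Hom.hom (ModuleCat.free_hom_ext (R := R.obj (op T)) (f := ModuleCat.ofHom _)
    (g := ModuleCat.ofHom LinearMap.id) fun p => ?_)
  show (ddR Uf R (n + 1)).app (op T) (hR Uf R (n + 1) T (gen p)) +
    hR Uf R n T ((ddR Uf R n).app (op T) (gen p)) = gen p
  rw [← lin_of (R := R) p, hR_lin, ddR_lin, ddR_lin, hR_lin, ← map_add, dd_htpy, sub_add_cancel]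

variable (Uf) (P : PresheafOfModules.{w} R)

/-- Injective presheaves of modules have no higher Čech cohomology. -/
theorem exactAt_cech_injective [Injective P] (n : ℕ) :
    (EtCech.cechComplex Uf P.presheaf).ExactAt (n + 1) := by
  rw [HomologicalComplex.exactAt_iff' _ n (n + 1) (n + 2) (by simp) (by simp),
    ShortComplex.ab_exact_iff]
  intro (x : (EtCech.cechComplex Uf P.presheaf).X (n + 1))
    (hx : ((EtCech.cechComplex Uf P.presheaf).d (n + 1) (n + 2)).hom x = 0)
  let φ : FR Uf R (n + 1) ⟶ P :=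
    descR (fun T p => toFn (P := P.presheaf) x T p) fun T T' f p => toFn_res (P := P.presheaf) x f p
  have hφd : ∀ (T : C) (z : ↥((FR Uf R (n + 2)).obj (op T))),
      φ.app (op T) ((ddR Uf R (n + 1)).app (op T) z) = 0 := by
    intro T
    suffices h : ((ddR Uf R (n + 1)) ≫ φ).app (op T) = 0 from fun z => congr(($h).hom z)
    refine ModuleCat.free_hom_ext fun p => ?_
    show φ.app (op T) ((ddR Uf R (n + 1)).app (op T) (gen p)) = 0
    rw [← lin_of (R := R) p, ddR_lin, dd_of, bdry, map_sum, map_sum]
    refine Eq.trans (Finset.sum_congr rfl fun j _ => ?_) ((toFn_d x T p).symm.trans ?_)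
    · rw [map_zsmul, map_zsmul, lin_of]
      exact congrArg _ (descR_gen _ _ T _)
    · show (P.presheaf.map p.toProd.op).hom (cev Uf P.presheaf (n + 2) _ _) = 0
      rw [hx, map_zero, map_zero]
  have hk : kernel.ι (ddR Uf R n) ≫ φ = 0 := by
    refine PresheafOfModules.hom_ext fun T => ModuleCat.hom_ext (LinearMap.ext fun z => ?_)
    show φ.app T ((kernel.ι (ddR Uf R n)).app T z) = 0
    have key : ∀ (T : C) (w : ↥((FR Uf R (n + 1)).obj (op T))),
        (ddR Uf R n).app (op T) w = 0 → φ.app (op T) w = 0 := by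
      intro T w h0
      have h1 : (ddR Uf R (n + 1)).app (op T) (hR Uf R (n + 1) T w) = w := by
        have := ddR_hR (n := n) w
        rwa [h0, map_zero, add_zero] at this
      exact (congrArg _ h1.symm).trans (hφd T _)
    exact key T.unop _ congr(($(kernel.condition (ddR Uf R n))).app T z)
  let S : ShortComplex (PresheafOfModules.{w} R) :=
    ShortComplex.mk (kernel.ι (ddR Uf R n)) (ddR Uf R n) (kernel.condition _)
  have hS : S.Exact := ShortComplex.exact_of_f_is_kernel S (kernelIsKernel (ddR Uf R n))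
  let ψ : FR Uf R n ⟶ P := hS.descToInjective φ hk
  have hψ : ddR Uf R n ≫ ψ = φ := hS.comp_descToInjective φ hk
  obtain ⟨y, hy⟩ := exists_cev Uf P.presheaf (n := n) fun i => ψ.app _ (gen (taut i))
  refine ⟨y, cev_ext Uf P.presheaf fun i => ?_⟩
  refine Eq.trans ?_ (?_ : toFn (P := P.presheaf) x _ (taut i) = cev Uf P.presheaf (n + 1) i x)
  · refine (cev_d Uf P.presheaf n i y).trans ?_
    have h2 : ψ.app (op _) ((ddR Uf R n).app (op _) (gen (taut i))) =
        toFn (P := P.presheaf) x _ (taut i) :=
      (congr(($hψ).app (op _) (gen (taut i)))).trans (descR_gen _ _ _ _)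
    rw [← h2, ← lin_of (R := R), ddR_lin, dd_of, bdry, map_sum, map_sum]
    refine Finset.sum_congr rfl fun j _ => ?_
    rw [hy, map_zsmul, map_zsmul, lin_of, taut_face]
    refine congrArg (fun y => (-1 : ℤ) ^ (j : ℕ) • y) ?_
    rw [← gen_res]
    exact (PresheafOfModules.naturality_apply ψ (tmap Uf i j).left.op (gen (taut (i ∘ j.succAbove)))).symm
  · show (P.presheaf.map (taut i).toProd.op).hom (cev Uf P.presheaf (n + 1) i x) = _
    rw [toProd_taut]
    exact ConcreteCategory.congr_hom (P.presheaf.map_id _) _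

/-- The same, as vanishing of Čech cohomology. -/
theorem isZero_cechH_injective [Injective P] (n : ℕ) : IsZero (EtCech.cechH Uf P.presheaf (n + 1)) :=
  (HomologicalComplex.exactAt_iff_isZero_homology _ _).1 (exactAt_cech_injective Uf P n)

end Groth.Agent.AlgSpDer.CechInjMod
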