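import Groth.Agent.SiteCmpLib.Secs.Rlim
import Groth.Agent.TriCat.DerivedProducts
import Groth.Agent.SiteBase.DLim.Acyclic

/-!
# Classes on objects acyclic for the cohomology objects, in categories with sections
-/

set_option autoImplicit false

universe w u

open CategoryTheory CategoryTheory.Limits Opposite Pretriangulated DerivedCategory

namespace Groth.Agent.AlgSpDer

open Groth.Agent.SiteCmpLib Groth.Agent.SiteCmpLib.Secs

variable {A : Type (u + 1)} [Category.{u} A] [Abelian A] [HasDerivedCategory.{w} A]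

local notation "tS" => (DerivedCategory.TStructure.t (C := A))
local notation "H" => DerivedCategory.homologyFunctor A

theorem h0_bijective_of_isGE (N : DerivedCategory A) [N.IsGE 0] (F : A) :
    Function.Bijective (h0 : ((singleFunctor A 0).obj F ⟶ N) → (F ⟶ (H 0).obj N)) := by
  constructor
  · intro φ ψ hφ
    refine sub_eq_zero.1 (H9Misc.zero_of_homologyMap 0 _ ?_)
    rw [Functor.map_sub, sub_eq_zero]
    exact (cancel_epi (unitIso.hom.app F)).1 hφ
  · intro g
    let N₀ := ((tS).truncLT 1).obj N
    let ι : N₀ ⟶ N := ((tS).truncLTι 1).app N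
    have : N₀.IsLE 0 := (tS).isLE_truncLT_obj ..
    have : IsIso ((H 0).map ι) := H9Misc.isIso_map_truncLTι 1 0 (by omega) N
    have : N₀.IsGE 0 := (isGE_iff _ _).2 fun i hi =>
      have := H9Misc.isIso_map_truncLTι 1 i (by omega) N
      (isZero_of_isGE N 0 i hi).of_iso (asIso ((H i).map ι))
    obtain ⟨G, ⟨e⟩⟩ := exists_iso_singleFunctor_obj_of_isGE_of_isLE N₀ 0
    let i₀ : G ≅ (H 0).obj N := unitIso.app G ≪≫ (H 0).mapIso e.symm ≪≫ asIso ((H 0).map ι)
    refine ⟨(singleFunctor _ 0).map (g ≫ i₀.inv) ≫ e.inv ≫ ι, ?_⟩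
    rw [h0_precomp, h0, Functor.map_comp]
    show (g ≫ i₀.inv) ≫ i₀.hom = g
    rw [Category.assoc, Iso.inv_hom_id, Category.comp_id]

variable {C : Type u} [SmallCategory C] {J : GrothendieckTopology C} (S : Secs J A)

theorem subsingleton_sections_of_isZero {M : A} (hM : IsZero M) (U : C) :
    Subsingleton ((S.Φ.obj M).obj.obj (op U)) := by
  have : Subsingleton (S.P.obj U ⟶ M) := ⟨fun a b => hM.eq_of_tgt a b⟩
  exact (S.sec U M).symm.toEquiv.subsingleton

/-- In the lowest degree classes are sections of the cohomology. -/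
theorem cls_bijective_of_isGE (X : DerivedCategory A) (a : ℤ) [X.IsGE a] (U : C) :
    Function.Bijective (S.cls X a U) := by
  have : (X⟦a⟧).IsGE 0 := (tS).isGE_shift X a a 0 (by omega)
  refine (S.sec U _).bijective.comp ?_
  exact (sIso X a).homToEquiv.bijective.comp (h0_bijective_of_isGE (X⟦a⟧) (S.P.obj U))

theorem cls_bijective_truncGE (E : DerivedCategory A) (U : C) (hE : S.Good E 0 U) :
    ∀ (a m : ℤ), Function.Bijective (S.cls (((tS).truncGE a).obj E) m U) := by
  suffices key : ∀ (d : ℕ) (a m : ℤ), m - a ≤ d →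
      Function.Bijective (S.cls (((tS).truncGE a).obj E) m U) from
    fun a m => key (m - a).toNat a m (by omega)
  have low : ∀ (a m : ℤ), m ≤ a → Function.Bijective (S.cls (((tS).truncGE a).obj E) m U) := by
    intro a m hm
    have : (((tS).truncGE a).obj E).IsGE a := (tS).isGE_truncGE_obj ..
    rcases eq_or_lt_of_le hm with rfl | hlt
    · exact cls_bijective_of_isGE S _ _ U
    · have : ((((tS).truncGE a).obj E)⟦m⟧).IsGE (a - m) := (tS).isGE_shift _ a m _ (by omega)
      have hsub : Subsingleton (S.PD U ⟶ (((tS).truncGE a).obj E)⟦m⟧) :=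
        subsingleton_of_forall_eq 0 fun f =>
          (tS).zero_of_isLE_of_isGE f 0 (a - m) (by omega) inferInstance inferInstance
      have h2 : Subsingleton ((S.HDs (((tS).truncGE a).obj E) m).obj.obj (op U)) :=
        subsingleton_sections_of_isZero S (isZero_of_isGE (((tS).truncGE a).obj E) a m hlt) U
      exact ⟨fun x y _ => Subsingleton.elim _ _, fun y => ⟨0, @Subsingleton.elim _ h2 _ _⟩⟩
  intro d
  induction d with
  | zero => exact fun a m hm => low a m (by omega)
  | succ d ih =>
    intro a m hm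
    by_cases hle : m ≤ a
    · exact low a m hle
    let g := ((tS).natTransTruncGEOfLE a (a + 1) (by omega)).app E
    have hb : Function.Bijective (fun x : S.PD U ⟶ (((tS).truncGE a).obj E)⟦m⟧ => x ≫ g⟦m⟧') := by
      refine ⟨fun x y hxy => sub_eq_zero.1 ?_, fun x => ?_⟩
      · refine S.step_injective E 0 U hE a (a + 1) m rfl (by omega) (x - y) ?_
        rw [Preadditive.sub_comp, sub_eq_zero]
        exact hxy
      · exact S.step_surjective E 0 U hE a (a + 1) m rfl (by omega) x
    have hiso : IsIso ((H m).map g) := by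
      have e := congrArg (H m).map ((tS).π_natTransTruncGEOfLE_app a (a + 1) (by omega) E)
      rw [Functor.map_comp] at e
      have := H9Misc.isIso_map_truncGEπ a m (by omega) E
      have := H9Misc.isIso_map_truncGEπ (a + 1) m (by omega) E
      exact IsIso.of_isIso_fac_left e
    refine (Function.Bijective.of_comp_iff'
      (DLim.sections_bijective_of_isIso (S.Φ.map ((H m).map g)) U) _).1 ?_
    have he : ⇑(((S.Φ.map ((H m).map g)).hom.app (op U)).hom) ∘ ⇑(S.cls (((tS).truncGE a).obj E) m U) =
        ⇑(S.cls (((tS).truncGE (a + 1)).obj E) m U) ∘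
          (fun x : S.PD U ⟶ (((tS).truncGE a).obj E)⟦m⟧ => x ≫ g⟦m⟧') :=
      funext fun x => (S.cls_comp g m U x).symm
    rw [he]
    exact (ih (a + 1) m (by omega)).comp hb

variable [IsGrothendieckAbelian.{u} A]

theorem hasProduct_nat (K : ℕ → DerivedCategory A) : HasProduct K := by
  have : HasLimitsOfShape (Discrete ℕ) (DerivedCategory A) :=
    TriCat.hasProductsOfShape_derivedCategory fun M => by
      obtain ⟨I, f, hI, hf, -, -⟩ := TriCat.exists_kInjective_resolution' M
      exact ⟨I, f, hI, hf⟩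
  infer_instance

/-- Classes on members of a covering set acyclic for all cohomology objects. -/
theorem cls_bijective (E : DerivedCategory A) {B : Set C} (hB : DLim.IsCoveredBy J B)
    (hE : ∀ V ∈ B, S.Good E 0 V) {U : C} (hU : U ∈ B) (m : ℤ) :
    Function.Bijective (S.cls E m U) := by
  have := hasProduct_nat (CohCx.truncTower E)
  have hL := S.isRlimVia_trunc E hB fun V _ => ⟨0, fun T hT => by
    obtain ⟨ι, Y, f, hf, hcov, hY⟩ := hB.refine_cover V hT
    exact ⟨ι, Y, f, hf, hcov, fun i => hE _ (hY i)⟩⟩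
  let N := 0 + m.natAbs + 1
  have := H9Misc.isIso_map_truncGEπ (-(N : ℤ)) m (by omega) E
  refine (Function.Bijective.of_comp_iff'
    (DLim.sections_bijective_of_isIso (S.Φ.map ((H m).map (CohCx.toTruncTower E N))) U) _).1 ?_
  have he : ⇑(((S.Φ.map ((H m).map (CohCx.toTruncTower E N))).hom.app (op U)).hom) ∘ ⇑(S.cls E m U) =
      ⇑(S.cls (CohCx.truncTower E N) m U) ∘
        (fun x : S.PD U ⟶ E⟦m⟧ => x ≫ (CohCx.toTruncTower E N)⟦m⟧') :=
    funext fun x => (S.cls_comp _ m U x).symm
  rw [he]
  exact (cls_bijective_truncGE S E U (hE U hU) _ m).comp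
    (S.proj_bijective E hL 0 U (hE U hU) m N (by omega))

end Groth.Agent.AlgSpDer
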