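import Groth.Prelude.Def_AlgSpEt
import Groth.Prelude.Def_BigSite
import Groth.Agent.AlgSpLib.Sheaf
import Mathlib.CategoryTheory.Sites.Canonical

/-!
# The small etale site of an algebraic space is subcanonical
-/

set_option autoImplicit false
set_option backward.isDefEq.respectTransparency false
set_option backward.isDefEq.respectTransparency.types false

universe u

open CategoryTheory CategoryTheory.Limits AlgebraicGeometry Opposite AlgSp
open Groth.Agent.AlgSpLib

namespace Groth.Agent.AlgSpDer

variable {S : Scheme.{u}} {X : Sp S}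

theorem etale_le_J (S : Scheme.{u}) : QuotSh.J Scheme.etalePrecoverage S ≤ AlgSp.J S :=
  BigSite.J_mono BigSite.etalePrecoverage_le_fppfPrecoverage S

/-- Representable presheaves on the small etale site are sheaves. -/
theorem isSheaf_yoneda_et (V : EtOver X) : Presieve.IsSheaf (etTop X) (yoneda.obj V) := by
  have hV : Presieve.IsSheaf (QuotSh.J Scheme.etalePrecoverage S) (yoneda.obj V.obj.left) :=
    Presieve.isSheaf_of_le _ (etale_le_J S)
      (GrothendieckTopology.Subcanonical.isSheaf_of_isRepresentable (J := AlgSp.J S) _)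
  have hX : Presieve.IsSheaf (QuotSh.J Scheme.etalePrecoverage S) X.obj :=
    Presieve.isSheaf_of_le _ (etale_le_J S) ((isSheaf_iff_isSheaf_of_type _ _).1 X.property)
  have hP := (EtOver.forget X).op_comp_isSheaf_of_isSheaf_type (J := etTop X) hV
  have hQ := (EtOver.forget X).op_comp_isSheaf_of_isSheaf_type (J := etTop X) hX
  intro E R hR x hx
  let x' : Presieve.FamilyOfElements ((EtOver.forget X).op ⋙ yoneda.obj V.obj.left) R.arrows :=
    fun W g hg => (x g hg).hom.left
  have hx' : x'.Compatible := fun W₁ W₂ Z g₁ g₂ f₁ f₂ h₁ h₂ e =>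
    congrArg (fun t => t.hom.left) (hx g₁ g₂ h₁ h₂ e)
  obtain ⟨g, hg, huniq⟩ := hP R hR x' hx'
  have hw : (yon S).map g ≫ V.obj.hom = E.obj.hom := by
    apply (AlgSp.J S).uliftYonedaEquiv.injective
    refine ((hQ R hR).isSeparatedFor).ext fun W k hk => ?_
    refine (uliftYonedaEquiv_precomp k.hom.left _).trans (Eq.trans ?_ (uliftYonedaEquiv_precomp k.hom.left _).symm)
    refine congrArg _ ?_
    rw [← Category.assoc, ← Functor.map_comp, EtOver.w k]
    exact (congrArg (fun t => (yon S).map t ≫ V.obj.hom) (hg k hk)).trans (EtOver.w (x k hk))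
  refine ⟨EtOver.homMk g hw, fun W k hk => EtOver.hom_ext _ _ (hg k hk), fun t ht =>
    EtOver.hom_ext _ _ ((huniq t.hom.left fun W k hk => congrArg (fun s => s.hom.left) (ht k hk)))⟩

instance subcanonical_etTop : (etTop X).Subcanonical :=
  GrothendieckTopology.Subcanonical.of_isSheaf_yoneda_obj _ isSheaf_yoneda_et

end Groth.Agent.AlgSpDer
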