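import Groth.Agent.AlgSpDer.Secs
import Groth.Agent.AlgSpDer.EtSubcanonical
import Groth.Agent.AlgSpMod.WeakAss
import Groth.Agent.AlgSpMod.Good
import Groth.Agent.AlgSpDec.ConsPoints
import Groth.Agent.ToposFinLib.Algebraic2
import Groth.Agent.ToposFinLib.Eps

/-!
# The small etale topos of a quasi-compact quasi-separated algebraic space is coherent
-/

set_option autoImplicit false
set_option backward.isDefEq.respectTransparency false
set_option backward.isDefEq.respectTransparency.types false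

universe u

open CategoryTheory CategoryTheory.Limits AlgebraicGeometry Opposite AlgSp ToposFin
open Groth.Agent Groth.Agent.AlgSpPts Groth.Agent.AlgSpLib Groth.Agent.AlgSpDec Groth.Agent.AlgSpMod Groth.Agent.ToposFinLib

namespace Groth.Agent.AlgSpDer

variable {S : Scheme.{u}} {X : Sp S}

instance subcanonical_smTop : (smTop X).Subcanonical := by
  refine GrothendieckTopology.Subcanonical.of_isSheaf_yoneda_obj _ fun U => ?_
  have h1 : Presieve.IsSheaf (smTop X)
      ((eSm X).inverse.op ⋙ yoneda.obj (dn X U) ⋙ uliftFunctor.{u + 1}) :=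
    (eSm X).inverse.op_comp_isSheaf_of_isSheaf_type (J := smTop X)
      ((Presieve.isSheaf_comp_uliftFunctor_iff (etTop X)).2 (isSheaf_yoneda_et (dn X U)))
  exact Presieve.isSheaf_iso _ (NatIso.ofComponents (fun W => (show
    ULift.{u + 1} (dn X W.unop ⟶ dn X U) ≃ (W.unop ⟶ U) from
      ⟨fun t => ⟨t.down⟩, fun t => ⟨t.down⟩, fun _ => rfl, fun _ => rfl⟩).toIso) fun _ => rfl) h1

/-- Objects with quasi-compact underlying scheme are quasi-compact in the site. -/
theorem isQCSite_of_compactSpace (U : SmEt X) [CompactSpace ↥(dn X U).obj.left.left] :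
    IsQCSite (smTop X) U := by
  intro R hR
  rw [mem_smTop_iff] at hR
  obtain ⟨P, hP, hPR⟩ := (etPre X).mem_toGrothendieck_iff_of_isStableUnderComposition.1 hR
  obtain ⟨κ, Z, g, rfl⟩ := P.exists_eq_ofArrows
  have hcov := (AlgSp.ofArrows_mem_etPre_iff Z g).1 hP
  obtain ⟨t, ht⟩ := isCompact_univ.elim_finite_subcover (fun k => Set.range (g k).hom.left.left)
    (fun k => by
      have := EtOver.etale_left (g k)
      exact (g k).hom.left.left.isOpenMap.isOpen_range)
    (fun x _ => Set.mem_iUnion.2 (hcov x))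
  have hg : ∀ k : t, ∃ (V : SmEt X) (a : V ⟶ U) (c : Z k.1 ⟶ dn X V), R a ∧
      c ≫ (eSm X).inverse.map a = g k.1 := fun k => by
    obtain ⟨V, a, c, ha, he⟩ := hPR _ _ (Presieve.ofArrows.mk k.1)
    exact ⟨V, a, c, ha, he.symm⟩
  choose V a c ha hc using hg
  let e : Fin t.card ≃ t := t.equivFin.symm
  refine ⟨t.card, fun i => V (e i), fun i => a (e i), fun i => ha _, ?_⟩
  rw [mem_smTop_iff]
  refine (etTop X).superset_covering ?_
    (AlgSp.ofArrows_mem_etTop (fun i => Z (e i).1) (fun i => g (e i).1) fun x => ?_)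
  · rw [Sieve.generate_le_iff, Presieve.ofArrows_le_iff]
    exact fun i => ⟨V (e i), a (e i), c (e i), Sieve.ofArrows_mk _ _ i, (hc (e i)).symm⟩
  · obtain ⟨k, hk, hxk⟩ := Set.mem_iUnion₂.1 (ht (Set.mem_univ x))
    refine ⟨e.symm ⟨k, hk⟩, ?_⟩
    rw [e.apply_symm_apply]
    exact hxk

/-- Fibre products of affine objects over an object with separated scheme are affine. -/
theorem aff_pullbackObj_of_isSeparated {E E₁ E₂ : EtOver X} (q₁ : E₁ ⟶ E) (q₂ : E₂ ⟶ E)
    [E.obj.left.left.IsSeparated] (h₁ : Aff E₁) (h₂ : Aff E₂) : Aff (EtOver.pullbackObj q₁ q₂) := by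
  have hsq := IsPullback.map (CategoryTheory.Over.forget S) (IsPullback.of_hasPullback q₁.hom.left q₂.hom.left)
  haveI : IsAffine E₁.obj.left.left := h₁
  haveI : IsAffine E₂.obj.left.left := h₂
  haveI : IsAffineHom q₂.hom.left.left := by
    haveI : IsAffineHom (q₂.hom.left.left ≫ terminal.from E.obj.left.left) := by
      rw [terminal.comp_from]; infer_instance
    exact IsAffineHom.of_comp _ (terminal.from E.obj.left.left)
  haveI : IsAffineHom (pullback.fst q₁.hom.left.left q₂.hom.left.left) :=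
    MorphismProperty.pullback_fst _ _ inferInstance
  haveI : IsAffine (pullback q₁.hom.left.left q₂.hom.left.left) :=
    isAffine_of_isAffineHom (pullback.fst q₁.hom.left.left q₂.hom.left.left)
  haveI : IsAffine (pullback ((Over.forget S).map q₁.hom.left) ((Over.forget S).map q₂.hom.left)) :=
    ‹IsAffine (pullback q₁.hom.left.left q₂.hom.left.left)›
  exact IsAffine.of_isIso (hsq.isoPullback.hom)

/-- The product of affine objects has separated scheme. -/
theorem isSeparated_prodObj (E₁ E₂ : EtOver X) (h₁ : Aff E₁) (h₂ : Aff E₂) :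
    (EtOver.prodObj E₁ E₂).obj.left.left.IsSeparated := by
  haveI : IsAffine E₁.obj.left.left := h₁
  haveI : IsAffine E₂.obj.left.left := h₂
  let p : (EtOver.prodObj E₁ E₂).obj.left.left ⟶
      pullback (terminal.from E₁.obj.left.left) (terminal.from E₂.obj.left.left) :=
    pullback.lift (EtOver.prodFst E₁ E₂).hom.left.left (EtOver.prodSnd E₁ E₂).hom.left.left
      (terminal.hom_ext _ _)
  haveI : Mono p := ⟨fun {T} t t' e => by
    have e₁ := congrArg (· ≫ pullback.fst _ _) e
    have e₂ := congrArg (· ≫ pullback.snd _ _) e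
    simp only [p, Category.assoc, pullback.lift_fst, pullback.lift_snd] at e₁ e₂
    let T₀ : Over S := Over.mk (t ≫ (EtOver.prodObj E₁ E₂).obj.left.hom)
    have hw : t' ≫ (EtOver.prodObj E₁ E₂).obj.left.hom = T₀.hom := by
      show _ = t ≫ _
      rw [← Over.w (EtOver.prodFst E₁ E₂).hom.left, ← Category.assoc, ← Category.assoc, e₁]
    let a : T₀ ⟶ (EtOver.prodObj E₁ E₂).obj.left := Over.homMk t rfl
    let b : T₀ ⟶ (EtOver.prodObj E₁ E₂).obj.left := Over.homMk t' hw
    have hsnd : a ≫ (EtOver.prodSnd E₁ E₂).hom.left = b ≫ (EtOver.prodSnd E₁ E₂).hom.left :=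
      Over.OverMorphism.ext e₂
    have hfst : a ≫ (EtOver.prodFst E₁ E₂).hom.left = b ≫ (EtOver.prodFst E₁ E₂).hom.left :=
      Over.OverMorphism.ext e₁
    have : a = b := E₂.property.1.hom_ext' hsnd hfst
    exact congrArg Over.Hom.left this⟩
  haveI : IsSeparated (p ≫ terminal.from _) := inferInstance
  exact ⟨by rwa [terminal.comp_from] at this⟩

/-- Equalizers of morphisms between affine objects are affine. -/
theorem exists_affine_equalizer {K L : EtOver X} (hK : Aff K) (hL : Aff L) (a b : K ⟶ L) :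
    ∃ (P : EtOver X) (e : P ⟶ K) (w : e ≫ a = e ≫ b), Aff P ∧ Nonempty (IsLimit (Fork.ofι e w)) := by
  let d : L ⟶ EtOver.prodObj L L := BinaryFan.IsLimit.lift' (EtOver.prodIsLimit L L) (𝟙 L) (𝟙 L) |>.1
  let c : K ⟶ EtOver.prodObj L L := BinaryFan.IsLimit.lift' (EtOver.prodIsLimit L L) a b |>.1
  have hd₁ : d ≫ EtOver.prodFst L L = 𝟙 L := (BinaryFan.IsLimit.lift' (EtOver.prodIsLimit L L) (𝟙 L) (𝟙 L)).2.1
  have hd₂ : d ≫ EtOver.prodSnd L L = 𝟙 L := (BinaryFan.IsLimit.lift' (EtOver.prodIsLimit L L) (𝟙 L) (𝟙 L)).2.2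
  have hc₁ : c ≫ EtOver.prodFst L L = a := (BinaryFan.IsLimit.lift' (EtOver.prodIsLimit L L) a b).2.1
  have hc₂ : c ≫ EtOver.prodSnd L L = b := (BinaryFan.IsLimit.lift' (EtOver.prodIsLimit L L) a b).2.2
  haveI := isSeparated_prodObj L L hL hL
  have sq := EtOver.isPullback c d
  have h₁ : EtOver.pullbackFst c d ≫ a = EtOver.pullbackSnd c d := by
    rw [← hc₁, ← Category.assoc, sq.w, Category.assoc, hd₁, Category.comp_id]
  have h₂ : EtOver.pullbackFst c d ≫ b = EtOver.pullbackSnd c d := by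
    rw [← hc₂, ← Category.assoc, sq.w, Category.assoc, hd₂, Category.comp_id]
  refine ⟨EtOver.pullbackObj c d, EtOver.pullbackFst c d, h₁.trans h₂.symm,
    aff_pullbackObj_of_isSeparated c d hK hL, ⟨Fork.IsLimit.mk _ (fun s => sq.lift s.ι (s.ι ≫ a) ?_)
      (fun s => sq.lift_fst _ _ _) fun s m hm => sq.hom_ext (hm.trans (sq.lift_fst _ _ _).symm) ?_⟩⟩
  · refine BinaryFan.IsLimit.hom_ext (EtOver.prodIsLimit L L) ?_ ?_
    · show (s.ι ≫ c) ≫ EtOver.prodFst L L = ((s.ι ≫ a) ≫ d) ≫ EtOver.prodFst L L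
      rw [Category.assoc, Category.assoc _ d, hc₁, hd₁, Category.comp_id]
    · show (s.ι ≫ c) ≫ EtOver.prodSnd L L = ((s.ι ≫ a) ≫ d) ≫ EtOver.prodSnd L L
      rw [Category.assoc, Category.assoc _ d, hc₂, hd₂, Category.comp_id]
      exact s.condition.symm
  · rw [sq.lift_snd, ← h₁, ← Category.assoc]
    exact congrArg (· ≫ a) hm

variable (X) in
/-- The sheaves represented by affine objects. -/
def affEps : Set (Sh (smTop X)) := {K | ∃ U ∈ affSet X, K = eps (smTop X) U}

/-- The functor to sheaves on the small model. -/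
noncomputable abbrev smEps : SmEt X ⥤ Sh (smTop X) := yoneda ⋙ presheafToSheaf (smTop X) (Type (u + 1))

theorem isGenerating_affEps : IsGenerating (affEps X) := by
  intro F
  refine ⟨Σ U : {U : SmEt X // U ∈ affSet X}, F.obj.obj (op U.1), fun p => eps _ p.1.1,
    fun p => epsDesc p.2, fun p => ⟨p.1.1, p.1.2, rfl⟩, cov_iff.1 fun {V} y => ?_⟩
  obtain ⟨ι, Y, f, hf, hY⟩ := isCoveredBy_affSet X V
  refine (smTop X).superset_covering ?_ hf
  rw [Sieve.generate_le_iff, Presieve.ofArrows_le_iff]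
  exact fun i => ⟨⟨⟨Y i, hY i⟩, F.obj.map (f i).op y⟩, epsGen _ _, epsDesc_gen _⟩

theorem isQC_of_mem_affEps : ∀ K ∈ affEps X, IsQC K := by
  rintro K ⟨U, hU, rfl⟩
  haveI : IsAffine (dn X U).obj.left.left := hU
  exact (isQC_eps_iff U).1 (isQCSite_of_compactSpace U)

theorem exists_eq_map {U V : SmEt X} (f : eps (smTop X) U ⟶ eps (smTop X) V) :
    ∃ g : dn X U ⟶ dn X V, (smEps (X := X)).map ((eSm X).functor.map g) = f := by
  let ff : (smEps (X := X)).FullyFaithful :=
    (smTop X).yonedaFullyFaithful.ofIso (NatIso.ofComponents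
      (fun U => (asIso ((sheafificationAdjunction (smTop X) (Type (u + 1))).counit.app
        ((smTop X).yoneda.obj U))).symm) (fun {U V} f => by
        show (smTop X).yoneda.map f ≫ inv ((sheafificationAdjunction (smTop X) (Type (u + 1))).counit.app
          ((smTop X).yoneda.obj V)) = inv ((sheafificationAdjunction (smTop X) (Type (u + 1))).counit.app
          ((smTop X).yoneda.obj U)) ≫ (smEps (X := X)).map f
        rw [IsIso.comp_inv_eq, Category.assoc, IsIso.eq_inv_comp]
        exact ((sheafificationAdjunction (smTop X) (Type (u + 1))).counit.naturality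
          ((smTop X).yoneda.map f)).symm))
  exact ⟨(ff.preimage f).down, ff.map_preimage f⟩

theorem closedUnderPullbacks_affEps : ClosedUnderPullbacks (affEps X) := by
  rintro K L M f g ⟨U, hU, rfl⟩ ⟨V, hV, rfl⟩ ⟨W, hW, rfl⟩
  obtain ⟨f', rfl⟩ := exists_eq_map f
  obtain ⟨g', rfl⟩ := exists_eq_map g
  exact ⟨eps _ ((eSm X).functor.obj (EtOver.pullbackObj f' g')),
    (smEps (X := X)).map ((eSm X).functor.map (EtOver.pullbackFst f' g')),
    (smEps (X := X)).map ((eSm X).functor.map (EtOver.pullbackSnd f' g')),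
    ⟨_, aff_pullbackObj f' g' hW hU hV, rfl⟩,
    ((EtOver.isPullback f' g').map (eSm X).functor).map (smEps (X := X))⟩

theorem closedUnderEqualizers_affEps : ClosedUnderEqualizers (affEps X) := by
  rintro K L a b ⟨U, hU, rfl⟩ ⟨V, hV, rfl⟩
  obtain ⟨a', rfl⟩ := exists_eq_map a
  obtain ⟨b', rfl⟩ := exists_eq_map b
  obtain ⟨P, e, w, hP, ⟨hl⟩⟩ := exists_affine_equalizer hU hV a' b'
  exact ⟨eps _ ((eSm X).functor.obj P), (smEps (X := X)).map ((eSm X).functor.map e), _, ⟨_, hP, rfl⟩,
    ⟨isLimitForkMapOfIsLimit ((eSm X).functor ⋙ smEps) w hl⟩⟩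

/-- The small etale topos is algebraic. -/
theorem isAlgebraic_smTop : IsAlgebraic (smTop X) :=
  ⟨affEps X, isQC_of_mem_affEps, isGenerating_affEps, closedUnderPullbacks_affEps, closedUnderEqualizers_affEps⟩

theorem compactSpace_prodObj [QuasiSeparatedSpace ↥S] (hX : IsAlgSpace X) (hqs : IsQuasiSeparatedSp X)
    (E₁ E₂ : EtOver X) (h₁ : Aff E₁) (h₂ : Aff E₂) :
    CompactSpace ↥(EtOver.prodObj E₁ E₂).obj.left.left := by
  haveI : IsAffine E₁.obj.left.left := h₁
  haveI : IsAffine E₂.obj.left.left := h₂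
  have hq : ∀ (W : Over S) [CompactSpace ↥W.left], IsQuasiCompactSp ((yon S).obj W) := fun W _ => by
    haveI : CompactSpace (Points ((yon S).obj W)) := (Points.schemeHomeo _).compactSpace
    exact (isQuasiCompactSp_iff (IsAlgSpace.yon_obj W)).2 ‹_›
  have hP := isQuasiCompactMor_of_qc_qs (IsAlgSpace.yon_obj E₂.obj.left) hX (hq _) hqs E₂.obj.hom
    (IsAlgSpace.yon_obj _) (hq E₁.obj.left) _ _ _ (E₂.property.1.isPullback E₁.obj.hom)
  haveI : CompactSpace (Points ((yon S).obj (EtOver.prodObj E₁ E₂).obj.left)) :=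
    (isQuasiCompactSp_iff (IsAlgSpace.yon_obj _)).1 hP
  exact (Points.schemeHomeo _).symm.compactSpace

/-- The final object is coherent. -/
theorem isCoherent_terminal [QuasiSeparatedSpace ↥S] (hX : IsAlgSpace X) (hqc : IsQuasiCompactSp X)
    (hqs : IsQuasiSeparatedSp X) : IsCoherent (⊤_ (Sh (smTop X))) := by
  haveI : CompactSpace (Points X) := (isQuasiCompactSp_iff hX).1 hqc
  choose E hE u hu using fun x : Points X => exists_affine_chart_point hX x
  obtain ⟨t, ht⟩ := isCompact_univ.elim_finite_subcover (fun x => Set.range (Points.ofPt (E x).obj.hom))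
    (fun x => (isOpenMap_ofPt (E x).property).isOpen_range) (fun x _ => Set.mem_iUnion.2 ⟨x, u x, hu x⟩)
  let c : ∀ k : t, eps (smTop X) ((eSm X).functor.obj (E k.1)) ⟶ ⊤_ (Sh (smTop X)) := fun k => terminal.from _
  have hc : Cov c := by
    intro U y
    rw [mem_smTop_iff]
    have key : ∀ v : ↥(dn X U).obj.left.left, ∃ (T : EtOver X) (g : T ⟶ dn X U) (k : t),
        Nonempty (T ⟶ E k.1) ∧ v ∈ Set.range g.hom.left.left := fun v => by
      obtain ⟨x, hx, w, hw⟩ := Set.mem_iUnion₂.1 (ht (Set.mem_univ (Points.ofPt (dn X U).obj.hom v)))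
      obtain ⟨T, g₁, g₂, z, -, hz, -⟩ := exists_common_affine v w hw.symm
      exact ⟨T, g₁, ⟨x, hx⟩, ⟨g₂⟩, z, hz⟩
    choose T g k hk hv using key
    refine (etTop X).superset_covering ?_ (AlgSp.ofArrows_mem_etTop T g fun v => ⟨v, hv v⟩)
    rw [Sieve.generate_le_iff, Presieve.ofArrows_le_iff]
    intro v
    obtain ⟨h⟩ := hk v
    let h' : (eSm X).functor.obj (T v) ⟶ (eSm X).functor.obj (E (k v).1) := (eSm X).functor.map h
    exact ⟨(eSm X).functor.obj (T v), ⟨g v⟩, 𝟙 _,
      ⟨k v, (eps (smTop X) _).obj.map h'.op (epsGen _ _), subsingleton_terminal_sections _ _ _⟩,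
      (Category.id_comp _).symm⟩
  refine ⟨isQC_of_finite_cov _ c hc fun k => isQC_of_mem_affEps _ ⟨_, hE k.1, rfl⟩, ?_⟩
  refine isQS_of_cov (gen_of_isGenerating isGenerating_affEps)
    (cov_self.{u + 1} (⊤_ (Sh (smTop X)))) fun A B i j a b hA hB => ?_
  obtain ⟨U, hU, rfl⟩ := hA
  obtain ⟨V, hV, rfl⟩ := hB
  let P := EtOver.prodObj (dn X U) (dn X V)
  haveI : CompactSpace ↥(dn X ((eSm X).functor.obj P)).obj.left.left := compactSpace_prodObj hX hqs _ _ hU hV
  have hl : IsLimit (BinaryFan.mk ((smEps (X := X)).map ((eSm X).functor.map (EtOver.prodFst (dn X U) (dn X V))))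
      ((smEps (X := X)).map ((eSm X).functor.map (EtOver.prodSnd (dn X U) (dn X V))))) :=
    mapIsLimitOfPreservesOfIsLimit ((eSm X).functor ⋙ smEps) _ _ (EtOver.prodIsLimit (dn X U) (dn X V))
  have sq : IsPullback ((smEps (X := X)).map ((eSm X).functor.map (EtOver.prodFst (dn X U) (dn X V))))
      ((smEps (X := X)).map ((eSm X).functor.map (EtOver.prodSnd (dn X U) (dn X V))))
      (a ≫ 𝟙 _) (b ≫ 𝟙 _) := by
    have h := IsPullback.of_is_product' hl terminalIsTerminal
    rw [terminalIsTerminal.hom_ext (a ≫ 𝟙 _) (terminalIsTerminal.from _),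
      terminalIsTerminal.hom_ext (b ≫ 𝟙 _) (terminalIsTerminal.from _)]
    exact h
  exact isQC_of_iso sq.isoPullback ((isQC_eps_iff _).1 (isQCSite_of_compactSpace _))
where
  subsingleton_terminal_sections (W : (SmEt X)ᵒᵖ) (p q : (⊤_ (Sh (smTop X))).obj.obj W) : p = q := by
    have hT : IsTerminal ((⊤_ (Sh (smTop X))).obj) :=
      IsTerminal.isTerminalObj (sheafToPresheaf (smTop X) (Type (u + 1))) _ terminalIsTerminal
    haveI : Unique ((⊤_ (Sh (smTop X))).obj.obj W) := Types.isTerminalEquivUnique _ (IsTerminal.isTerminalObj ((evaluation _ (Type (u + 1))).obj W) _ hT)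
    exact Subsingleton.elim _ _

end Groth.Agent.AlgSpDer
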