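import Mathlib.Algebra.Homology.DerivedCategory.Ext.MapBijective

/-!
# Ext functors transported along exact fully faithful functors
-/

set_option autoImplicit false

universe w v v' u u' v₁ u₁

open CategoryTheory CategoryTheory.Limits CategoryTheory.Abelian

namespace Groth.Agent.AlgSpDer

variable {A : Type u} [Category.{v} A] [Abelian A] [HasExt.{w} A] [EnoughInjectives A]
  {B : Type u'} [Category.{v'} B] [Abelian B] [HasExt.{w} B]
  (Φ : A ⥤ B) [Φ.Additive] [PreservesFiniteLimits Φ] [PreservesFiniteColimits Φ] [Φ.Full] [Φ.Faithful]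
  [Φ.PreservesInjectiveObjects] {P : A} {Q : B} (c : Φ.obj P ≅ Q) (n : ℕ)

/-- The comparison of Ext groups. -/
noncomputable def extMap (F : A) : Ext P F n →+ Ext Q (Φ.obj F) n where
  toFun x := (Ext.mk₀ c.inv).comp (x.mapExactFunctor Φ) (zero_add n)
  map_zero' := by rw [Ext.mapExactFunctor_zero, Ext.comp_zero]
  map_add' x y := by rw [Ext.mapExactFunctor_add, Ext.comp_add]

theorem bijective_extMap (F : A) : Function.Bijective (extMap Φ c n F) := by
  refine Function.Bijective.comp (g := fun y => (Ext.mk₀ c.inv).comp y (zero_add n)) ?_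
    (Φ.mapExt_bijective_of_preservesInjectiveObjects P F n)
  refine Function.bijective_iff_has_inverse.2 ⟨fun y => (Ext.mk₀ c.hom).comp y (zero_add n), fun y => ?_, fun y => ?_⟩
  · show (Ext.mk₀ c.hom).comp ((Ext.mk₀ c.inv).comp y _) _ = y
    rw [Ext.mk₀_comp_mk₀_assoc, Iso.hom_inv_id, Ext.mk₀_id_comp]
  · show (Ext.mk₀ c.inv).comp ((Ext.mk₀ c.hom).comp y _) _ = y
    rw [Ext.mk₀_comp_mk₀_assoc, Iso.inv_hom_id, Ext.mk₀_id_comp]

theorem extMap_natural {F G : A} (φ : F ⟶ G) (x : Ext P F n) :
    extMap Φ c n G (x.comp (Ext.mk₀ φ) (add_zero n)) =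
      (extMap Φ c n F x).comp (Ext.mk₀ (Φ.map φ)) (add_zero n) := by
  simp only [extMap, AddMonoidHom.coe_mk, ZeroHom.coe_mk]
  rw [Ext.mapExactFunctor_comp, Ext.mapExactFunctor_mk₀, Ext.comp_assoc_of_third_deg_zero]

/-- The comparison isomorphism. -/
noncomputable def extNatIso : (extFunctor.{w} n).obj (Opposite.op P) ≅ Φ ⋙ (extFunctor.{w} n).obj (Opposite.op Q) :=
  NatIso.ofComponents (fun F => (AddEquiv.ofBijective _ (bijective_extMap Φ c n F)).toAddCommGrpIso)
    fun {F G} φ => AddCommGrpCat.hom_ext (AddMonoidHom.ext fun x => by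
      exact extMap_natural (G := G) Φ c n φ x)

include c in
theorem preservesColimitsOfShape_ext (J : Type u₁) [Category.{v₁} J] [PreservesColimitsOfShape J Φ]
    [PreservesColimitsOfShape J ((extFunctor.{w} n).obj (Opposite.op Q))] :
    PreservesColimitsOfShape J ((extFunctor.{w} n).obj (Opposite.op P)) :=
  preservesColimitsOfShape_of_natIso (extNatIso Φ c n).symm

end Groth.Agent.AlgSpDer
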