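import Mathlib.Algebra.Category.ModuleCat.Presheaf.Pushforward
import Mathlib.Algebra.Category.ModuleCat.Presheaf.EpiMono
import Mathlib.Algebra.Category.ModuleCat.Presheaf.Abelian
import Mathlib.CategoryTheory.Preadditive.Injective.Basic
import Mathlib.Algebra.DirectSum.Module
import Mathlib.CategoryTheory.Comma.Over.Basic

/-!
# Restriction of injective presheaves of modules to a slice is injective

Extension by zero from a slice is a direct sum over structure maps, so it preserves monomorphisms.
-/

set_option backward.isDefEq.respectTransparency false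
set_option backward.isDefEq.respectTransparency.types false

universe w v u

open CategoryTheory Opposite DirectSum

namespace Groth.Agent.AlgSpDer.OverInj

variable {C : Type u} [Category.{v} C] {R : Cᵒᵖ ⥤ RingCat.{w}} {E : C}

/-- The presheaf of rings on the slice. -/
abbrev RE (R : Cᵒᵖ ⥤ RingCat.{w}) (E : C) : (Over E)ᵒᵖ ⥤ RingCat.{w} := (Over.forget E).op ⋙ R

variable (N : PresheafOfModules.{max w v} (RE R E))

/-- The components of the extension by zero. -/
abbrev Cmp (W : C) (g : W ⟶ E) : Type (max w v) := N.obj (op (Over.mk g))

noncomputable instance cmpModule (W : C) (g : W ⟶ E) : Module (R.obj (op W)) (Cmp N W g) :=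
  inferInstanceAs (Module ((RE R E).obj (op (Over.mk g))) (N.obj (op (Over.mk g))))

/-- The sections of the extension by zero. -/
abbrev Tot (W : C) : Type (max w v) := ⨁ g : W ⟶ E, Cmp N W g

open Classical in
/-- The inclusion of a component. -/
noncomputable def inc (W : C) (g : W ⟶ E) : Cmp N W g →ₗ[R.obj (op W)] Tot N W :=
  DirectSum.lof (R.obj (op W)) (W ⟶ E) (Cmp N W) g

variable {N}

theorem tot_induction {W : C} {motive : Tot N W → Prop} (x : Tot N W) (h0 : motive 0)
    (hi : ∀ g y, motive (inc N W g y)) (ha : ∀ a b, motive a → motive b → motive (a + b)) : motive x := by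
  classical
  induction x using DirectSum.induction_on with
  | zero => exact h0
  | of g y => exact hi g y
  | add a b hha hhb => exact ha a b hha hhb

variable (N)

/-- Transition on a component. -/
noncomputable def incMap {W W' : C} (f : W' ⟶ W) (g : W ⟶ E) : Cmp N W g →+ Tot N W' :=
  (inc N W' (f ≫ g)).toAddMonoidHom.comp
    (N.presheaf.map (Over.homMk f rfl : Over.mk (f ≫ g) ⟶ Over.mk g).op).hom

open Classical in
/-- Transition maps. -/
noncomputable def totMap {W W' : C} (f : W' ⟶ W) : Tot N W →+ Tot N W' :=
  DirectSum.toAddMonoid fun g => incMap N f g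

theorem totMap_inc {W W' : C} (f : W' ⟶ W) (g : W ⟶ E) (y : Cmp N W g) :
    totMap N f (inc N W g y) =
      inc N W' (f ≫ g) (N.map (Over.homMk f rfl : Over.mk (f ≫ g) ⟶ Over.mk g).op y) := by
  classical
  exact DirectSum.toAddMonoid_of _ _ _

theorem inc_congr {W W' : C} (f : W' ⟶ W) (g : W ⟶ E) (g' : W' ⟶ E) (k : Over.mk g' ⟶ Over.mk g)
    (hk : k.left = f) (y : Cmp N W g) :
    inc N W' (f ≫ g) (N.map (Over.homMk f rfl : Over.mk (f ≫ g) ⟶ Over.mk g).op y) =
      inc N W' g' (N.map k.op y) := by
  obtain rfl : f ≫ g = g' := by rw [← hk]; exact Over.w k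
  have : k = Over.homMk f rfl := Over.OverMorphism.ext hk
  rw [this]

theorem totMap_id (W : C) (x : Tot N W) : totMap N (𝟙 W) x = x := by
  induction x using tot_induction with
  | h0 => exact map_zero _
  | hi g y =>
    rw [totMap_inc, inc_congr N (𝟙 W) g g (𝟙 _) rfl]
    exact congrArg _ (congr($(N.presheaf.map_id (op (Over.mk g))) y))
  | ha a b ha hb => rw [map_add, ha, hb]

theorem totMap_comp {W W' W'' : C} (f : W' ⟶ W) (f' : W'' ⟶ W') (x : Tot N W) :
    totMap N (f' ≫ f) x = totMap N f' (totMap N f x) := by
  induction x using tot_induction with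
  | h0 => simp only [map_zero]
  | hi g y =>
    rw [totMap_inc, totMap_inc, totMap_inc,
      inc_congr N (f' ≫ f) g (f' ≫ f ≫ g)
        ((Over.homMk f' rfl : Over.mk (f' ≫ f ≫ g) ⟶ Over.mk (f ≫ g)) ≫ Over.homMk f rfl) rfl]
    exact congrArg _ (congr($(N.presheaf.map_comp _ _) y))
  | ha a b ha hb => simp only [map_add, ha, hb]

theorem totMap_smul {W W' : C} (f : W' ⟶ W) (r : R.obj (op W)) (x : Tot N W) :
    totMap N f (r • x) = R.map f.op r • totMap N f x := by
  induction x using tot_induction with
  | h0 => simp only [smul_zero, map_zero]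
  | hi g y =>
    rw [← LinearMap.map_smul, totMap_inc, totMap_inc, ← LinearMap.map_smul]
    exact congrArg _ (N.map_smul (Over.homMk f rfl : Over.mk (f ≫ g) ⟶ Over.mk g).op r y)
  | ha a b ha hb => simp only [smul_add, map_add, ha, hb]

/-- The underlying presheaf of the extension by zero. -/
noncomputable def totPsh : Cᵒᵖ ⥤ AddCommGrpCat.{max w v} where
  obj W := AddCommGrpCat.of (Tot N W.unop)
  map f := AddCommGrpCat.ofHom (totMap N f.unop)
  map_id W := AddCommGrpCat.hom_ext (AddMonoidHom.ext (totMap_id N W.unop))
  map_comp f f' := AddCommGrpCat.hom_ext (AddMonoidHom.ext (totMap_comp N f.unop f'.unop))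

noncomputable instance totModule (W : Cᵒᵖ) : Module (R.obj W) ((totPsh N).obj W) :=
  inferInstanceAs (Module (R.obj (op W.unop)) (Tot N W.unop))

/-- Extension by zero. -/
noncomputable def ext0 : PresheafOfModules.{max w v} R :=
  PresheafOfModules.ofPresheaf (totPsh N) fun _ _ f r x => totMap_smul N f.unop r x

variable {N}

open Classical in
/-- The map of extensions by zero. -/
noncomputable def ext0Map {N' : PresheafOfModules.{max w v} (RE R E)} (i : N ⟶ N') : ext0 N ⟶ ext0 N' :=
  PresheafOfModules.homMk
    { app := fun W => AddCommGrpCat.ofHom (DirectSum.map fun g => (i.app (op (Over.mk g))).hom.toAddMonoidHom :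
        Tot N W.unop →+ Tot N' W.unop)
      naturality := fun W W' f => by
        refine ConcreteCategory.hom_ext _ _ fun x => ?_
        show (DirectSum.map _) (totMap N f.unop x) = totMap N' f.unop ((DirectSum.map _) x)
        induction x using tot_induction with
        | h0 => simp only [map_zero]
        | hi g y =>
          rw [totMap_inc]
          refine (DirectSum.map_of _ _ _).trans ?_
          refine Eq.trans ?_ (congrArg (totMap N' f.unop) (DirectSum.map_of _ _ _)).symm
          refine Eq.trans ?_ (totMap_inc N' f.unop g _).symm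
          exact congrArg _ (PresheafOfModules.naturality_apply i
            (Over.homMk f.unop rfl : Over.mk (f.unop ≫ g) ⟶ Over.mk g).op y)
        | ha a b ha hb => simp only [map_add, ha, hb] }
    fun W r x => by
      show (DirectSum.map _) (r • (show Tot N W.unop from x)) = r • (DirectSum.map _) (show Tot N W.unop from x)
      induction (show Tot N W.unop from x) using tot_induction with
      | h0 => simp only [smul_zero, map_zero]
      | hi g y =>
        rw [← LinearMap.map_smul]
        refine (DirectSum.map_of _ _ _).trans ?_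
        refine Eq.trans ?_ (congrArg (r • ·) (DirectSum.map_of _ _ _)).symm
        refine Eq.trans ?_ ((inc N' W.unop g).map_smul r _)
        exact congrArg _ ((i.app (op (Over.mk g))).hom.map_smul r y)
      | ha a b ha hb => simp only [smul_add, map_add, ha, hb]

open Classical in
/-- A map out of extension by zero. -/
noncomputable def ext0Desc {P : PresheafOfModules.{max w v} R}
    (ψ : N ⟶ (PresheafOfModules.pushforward₀ (Over.forget E) R).obj P) : ext0 N ⟶ P :=
  PresheafOfModules.homMk
    { app := fun W => AddCommGrpCat.ofHom (DirectSum.toAddMonoid fun g =>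
        (ψ.app (op (Over.mk g))).hom.toAddMonoidHom : Tot N W.unop →+ P.obj W)
      naturality := fun W W' f => by
        refine ConcreteCategory.hom_ext _ _ fun x => ?_
        show (DirectSum.toAddMonoid _) (totMap N f.unop x) = P.map f ((DirectSum.toAddMonoid _) x)
        induction x using tot_induction with
        | h0 => simp only [map_zero]
        | hi g y =>
          rw [totMap_inc]
          refine (DirectSum.toAddMonoid_of _ _ _).trans ?_
          refine Eq.trans ?_ (congrArg (P.map f) (DirectSum.toAddMonoid_of _ _ _)).symm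
          exact PresheafOfModules.naturality_apply ψ
            (Over.homMk f.unop rfl : Over.mk (f.unop ≫ g) ⟶ Over.mk g).op y
        | ha a b ha hb => simp only [map_add, ha, hb] }
    fun W r x => by
      show (DirectSum.toAddMonoid _) (r • (show Tot N W.unop from x)) =
        r • (DirectSum.toAddMonoid _) (show Tot N W.unop from x)
      induction (show Tot N W.unop from x) using tot_induction with
      | h0 => simp only [smul_zero, map_zero]
      | hi g y =>
        rw [← LinearMap.map_smul]
        refine (DirectSum.toAddMonoid_of _ _ _).trans ?_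
        refine Eq.trans ?_ (congrArg (r • ·) (DirectSum.toAddMonoid_of _ _ _)).symm
        exact (ψ.app (op (Over.mk g))).hom.map_smul r y
      | ha a b ha hb => simp only [smul_add, map_add, ha, hb]

theorem ext0Desc_inc {P : PresheafOfModules.{max w v} R}
    (ψ : N ⟶ (PresheafOfModules.pushforward₀ (Over.forget E) R).obj P) (W : C) (g : W ⟶ E) (y : Cmp N W g) :
    (ext0Desc ψ).app (op W) (show (ext0 N).obj (op W) from inc N W g y) =
      (show P.obj (op W) from ψ.app (op (Over.mk g)) y) := by
  classical
  exact DirectSum.toAddMonoid_of (β := Cmp N W) (γ := P.obj (op W))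
    (fun g : W ⟶ E => (ψ.app (op (Over.mk g))).hom.toAddMonoidHom) g y

theorem ext0Map_inc {N' : PresheafOfModules.{max w v} (RE R E)} (i : N ⟶ N') (W : C) (g : W ⟶ E) (y : Cmp N W g) :
    (ext0Map i).app (op W) (show (ext0 N).obj (op W) from inc N W g y) =
      (show (ext0 N').obj (op W) from inc N' W g (i.app (op (Over.mk g)) y)) := by
  classical
  exact DirectSum.map_of _ _ _

/-- Restriction to a slice preserves injectives. -/
theorem injective_pushforward₀ (P : PresheafOfModules.{max w v} R) [Injective P] :
    Injective ((PresheafOfModules.pushforward₀ (Over.forget E) R).obj P) := by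
  classical
  refine ⟨fun {N N'} ψ i hi => ?_⟩
  have hinj := PresheafOfModules.injective_of_mono i
  haveI : Mono (ext0Map i) := PresheafOfModules.mono_of_injective fun W =>
    (DirectSum.map_injective _).2 fun g => hinj (X := op (Over.mk g))
  obtain ⟨χ, hχ⟩ := Injective.factors (ext0Desc ψ) (ext0Map i)
  refine ⟨PresheafOfModules.homMk
    { app := fun Y => AddCommGrpCat.ofHom
        ((χ.app (op Y.unop.left)).hom.toAddMonoidHom.comp (inc N' Y.unop.left Y.unop.hom).toAddMonoidHom)
      naturality := fun Y Y' f => by
        refine ConcreteCategory.hom_ext _ _ fun y => ?_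
        show χ.app (op Y'.unop.left)
            (show (ext0 N').obj (op Y'.unop.left) from inc N' Y'.unop.left Y'.unop.hom (N'.map f y)) =
          P.map f.unop.left.op (χ.app (op Y.unop.left)
            (show (ext0 N').obj (op Y.unop.left) from inc N' Y.unop.left Y.unop.hom y))
        rw [← PresheafOfModules.naturality_apply χ f.unop.left.op]
        refine congrArg (χ.app _) ?_
        refine Eq.trans ?_ (totMap_inc N' f.unop.left Y.unop.hom y).symm
        exact (inc_congr N' f.unop.left Y.unop.hom Y'.unop.hom f.unop rfl y).symm }
    fun Y r y => (congrArg (χ.app _) ((inc N' Y.unop.left Y.unop.hom).map_smul r y)).trans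
      ((χ.app (op Y.unop.left)).hom.map_smul r _), ?_⟩
  refine PresheafOfModules.hom_ext fun Y => ModuleCat.hom_ext (LinearMap.ext fun y => ?_)
  show χ.app (op Y.unop.left)
    (show (ext0 N').obj (op Y.unop.left) from inc N' Y.unop.left Y.unop.hom (i.app Y y)) = ψ.app Y y
  refine Eq.trans ?_ ((congr(($hχ).app (op Y.unop.left)
    (show (ext0 N).obj (op Y.unop.left) from inc N Y.unop.left Y.unop.hom y))).trans (ext0Desc_inc ψ _ _ y))
  exact (congrArg (χ.app (op Y.unop.left)) (ext0Map_inc i Y.unop.left Y.unop.hom y)).symm

end Groth.Agent.AlgSpDer.OverInj
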