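import Groth.Agent.SiteCmpLib.Secs.Derived

/-!
# Classes whose direct image has no cohomology
-/

set_option autoImplicit false

universe w w' v u' v' u'' u

open CategoryTheory CategoryTheory.Limits Opposite DerivedCategory

namespace Groth.Agent.AlgSpDer

open Groth.Agent.SiteCmpLib Groth.Agent.SiteCmpLib.Secs

variable {A : Type u'} [Category.{v} A] [Abelian A] [HasDerivedCategory.{w} A]

theorem cycMap_precomp {P P' : A} {I : CochainComplex A ℤ} (g : P' ⟶ P) (z : P ⟶ I.X 0)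
    (h : z ≫ I.d 0 1 = 0) (h' : (g ≫ z) ≫ I.d 0 1 = 0) :
    (singleFunctor A 0).map g ≫ cycMap z h = cycMap (g ≫ z) h' := by
  show Q.map ((HomologicalComplex.single A (ComplexShape.up ℤ) 0).map g) ≫ Q.map (mkS z h) = _
  rw [← Functor.map_comp]
  exact congrArg Q.map (HomologicalComplex.from_single_hom_ext
    (by simp [HomologicalComplex.single_map_f_self]))

theorem cycMapJ_precomp {P P' : A} {I : CochainComplex A ℤ} (g : P' ⟶ P) (j : ℤ) (z : P ⟶ I.X j)
    (h : z ≫ I.d j (j + 1) = 0) (h' : (g ≫ z) ≫ I.d j (j + 1) = 0) :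
    (singleFunctor A 0).map g ≫ cycMapJ j z h = cycMapJ j (g ≫ z) h' := by
  have e : g ≫ toS j z = toS j (g ≫ z) := (Category.assoc _ _ _).symm
  have hd : (g ≫ toS j z) ≫ (I⟦j⟧).d 0 1 = 0 := by rw [e]; exact (toS_d_iff j _).2 h'
  rw [cycMapJ, cycMapJ, ← Category.assoc, cycMap_precomp g (toS j z) ((toS_d_iff j z).2 h) hd]
  simp only [e]

variable [IsGrothendieckAbelian.{v} A]
  {B : Type u''} [Category.{v'} B] [Abelian B] [HasDerivedCategory.{w'} B]
  (G : A ⥤ B) [G.Additive]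
  [(G.mapHomotopyCategory (ComplexShape.up ℤ) ⋙ Qh).HasRightDerivedFunctor
      (HomotopyCategory.quasiIso A (ComplexShape.up ℤ))]
  {C D : Type u} [SmallCategory C] [SmallCategory D]
  {J : GrothendieckTopology C} {K : GrothendieckTopology D}
  {S : Secs J A} {S' : Secs K B} (π : PushData S S' G)
  (uM : ∀ {V W : D}, (W ⟶ V) → (π.u W ⟶ π.u V))
  (hτ : ∀ {V W : D} (f : W ⟶ V) (M : A) (b : S'.P.obj V ⟶ G.obj M),
    π.τ W M (S'.P.map f ≫ b) = S.P.map (uM f) ≫ π.τ V M b)
  (hcov : ∀ {V : D} (R : Sieve V), R ∈ K V → ∀ T : Sieve (π.u V),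
    (∀ {W : D} (f : W ⟶ V), R f → T (uM f)) → T ∈ J (π.u V))

include hτ hcov in
/-- A class over `u V` dies in the cohomology sheaf if the derived direct image has no cohomology. -/
theorem cls_eq_zero_of_isZero_push (X : DerivedCategory A) (j : ℤ)
    (hX : IsZero ((homologyFunctor B j).obj ((RG G).obj X))) (V : D) (a : S.PD (π.u V) ⟶ X⟦j⟧) :
    S.cls X j (π.u V) a = 0 := by
  obtain ⟨I, I', hI, -, φ, e₀, -, e, -, -, -⟩ := exists_kInj_model G (𝟙 X) j
  let Gc := G.mapHomologicalComplex (ComplexShape.up ℤ)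
  obtain ⟨z, hz, ha⟩ := cycMapJ_surjective I j (a ≫ (e₀.inv)⟦j⟧')
  let b : S'.P.obj V ⟶ G.obj (I.X j) := (π.τ V _).symm z
  have hb : π.τ V _ b = z := AddEquiv.apply_symm_apply _ _
  have hbc : S'.Cyc (Gc.obj I) j V b := (τ_cyc π j I b).2 (by rw [hb]; exact hz)
  have hzero : IsZero ((Gc.obj I).homology j) := hX.of_iso e
  have h0 : S'.cycCls (L := Gc.obj I) (j := j) b hbc = 0 := by
    refine (congrArg (S'.sec V _) (hzero.eq_of_tgt _ 0)).trans (map_zero _)
  obtain ⟨R, hR, hbd⟩ := S'.exists_bdry_cover (L := Gc.obj I) (j := j) b hbc h0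
  let T : Sieve (π.u V) :=
    { arrows := fun W g => (singleFunctor A 0).map (S.P.map g) ≫ a = 0
      downward_closed := fun {W W'} g hg k => by
        show (singleFunctor A 0).map (S.P.map (k ≫ g)) ≫ a = 0
        rw [S.P.map_comp, Functor.map_comp, Category.assoc, hg, comp_zero] }
  have hT : T ∈ J (π.u V) := hcov R hR T fun {W} f hf => by
    obtain ⟨w, hw⟩ := (τ_bdry π j I _).1 (hbd W f hf)
    replace hw : w ≫ I.d (j - 1) j = S.P.map (uM f) ≫ z :=
      hw.trans ((hτ f _ b).trans (congrArg (S.P.map (uM f) ≫ ·) hb))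
    have hd : (S.P.map (uM f) ≫ z) ≫ I.d j (j + 1) = 0 := by rw [Category.assoc, hz, comp_zero]
    have h1 : ((singleFunctor A 0).map (S.P.map (uM f)) ≫ a) ≫ (e₀.inv)⟦j⟧' = 0 := by
      rw [Category.assoc, ← ha, cycMapJ_precomp _ j z hz hd]
      exact cycMapJ_eq_zero_of_bdry I j _ hd w hw
    exact (cancel_mono ((e₀.inv)⟦j⟧')).1 (h1.trans zero_comp.symm)
  refine DLim.sections_separated _ hT _ 0 fun W g hg => ?_
  rw [map_zero, ← S.cls_res, show (singleFunctor A 0).map (S.P.map g) ≫ a = 0 from hg, map_zero]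

end Groth.Agent.AlgSpDer
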