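import Groth.Agent.AlgSpDer.Secs
import Groth.Agent.AlgSpDer.CechInjMod
import Mathlib.Algebra.Homology.DerivedCategory.Ext.EnoughInjectives

/-!
# Quasi-coherent modules are acyclic on affine objects
-/

set_option autoImplicit false
set_option backward.isDefEq.respectTransparency false
set_option backward.isDefEq.respectTransparency.types false

universe u

open CategoryTheory CategoryTheory.Limits AlgebraicGeometry Opposite AlgSp Abelian
open Groth.Agent Groth.Agent.AlgSpMod Groth.Agent.SiteCmpLib

namespace Groth.Agent.AlgSpDer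

variable {S : Scheme.{u}} {X : Sp S}

/-- An injective module has no Čech cohomology on affine objects. -/
theorem isAffAcyc_toAb_injective (I : ModEt X) [Injective I] : IsAffAcyc ((toAbEt X).obj I) := by
  intro U _ Y _ _ _ p
  haveI : LocallySmall.{u + 1} (EtOver X) := ⟨fun _ _ => inferInstance⟩
  haveI : Injective ((SheafOfModules.forget (OEtRing X) ⋙
      PresheafOfModules.restrictScalars (𝟙 (OEtRing X).obj)).obj I) :=
    Injective.injective_of_adjoint
      (PresheafOfModules.sheafificationAdjunction.{u + 1} (R := OEtRing X) (𝟙 (OEtRing X).obj)) I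
  exact CechInjMod.isZero_cechH_injective _ ((SheafOfModules.forget (OEtRing X) ⋙
    PresheafOfModules.restrictScalars (𝟙 (OEtRing X).obj)).obj I) p

/-- Sections over affine objects lift along epimorphisms with acyclic kernel. -/
theorem exists_lift_of_acyc (C : ShortComplex (ModEt X)) (hC : C.ShortExact)
    (h₁ : IsAffAcyc ((toAbEt X).obj C.X₁)) {U : EtOver X} (hU : Aff U) (s : (freeEt X).obj U ⟶ C.X₃) :
    ∃ t : (freeEt X).obj U ⟶ C.X₂, t ≫ C.g = s := by
  obtain ⟨x, hx⟩ := sections_surjective (C.map (toAbEt X)) (hC.map_of_exact (toAbEt X)) h₁ hU (freeSec X U C.X₃ s)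
  refine ⟨(freeSec X U C.X₂).symm x, (freeSec X U C.X₃).injective ?_⟩
  rw [freeSec_comp, Equiv.apply_symm_apply]
  exact hx

/-- Acyclic modules have no higher extensions out of affine objects. -/
theorem ext_eq_zero_of_acyc [HasExt.{u + 1} (ModEt X)] (n : ℕ) :
    ∀ (M : ModEt X), IsAffAcyc ((toAbEt X).obj M) → ∀ {U : EtOver X}, Aff U →
      ∀ x : Ext ((freeEt X).obj U) M (n + 1), x = 0 := by
  haveI := enoughInjectives_modEt X
  induction n with
  | zero =>
    intro M hM U hU x
    let C := ShortComplex.mk (Injective.ι M) (cokernel.π _) (cokernel.condition (Injective.ι M))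
    have hC : C.ShortExact := { exact := ShortComplex.exact_of_g_is_cokernel _ (cokernelIsCokernel _) }
    haveI : Injective C.X₂ := inferInstanceAs (Injective (Injective.under M))
    obtain ⟨y, rfl⟩ := Ext.covariant_sequence_exact₁ _ hC x (Ext.eq_zero_of_injective _) (n₀ := 0) rfl
    obtain ⟨y, rfl⟩ := (Ext.mk₀_bijective _ _).2 y
    obtain ⟨t, rfl⟩ := exists_lift_of_acyc C hC hM hU y
    rw [← Ext.mk₀_comp_mk₀, Ext.comp_assoc_of_second_deg_zero, hC.comp_extClass, Ext.comp_zero]
  | succ n ih =>
    intro M hM U hU x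
    let C := ShortComplex.mk (Injective.ι M) (cokernel.π _) (cokernel.condition (Injective.ι M))
    have hC : C.ShortExact := { exact := ShortComplex.exact_of_g_is_cokernel _ (cokernelIsCokernel _) }
    haveI : Injective C.X₂ := inferInstanceAs (Injective (Injective.under M))
    obtain ⟨z, rfl⟩ := Ext.covariant_sequence_exact₁ _ hC x (Ext.eq_zero_of_injective _) (n₀ := n + 1) rfl
    rw [ih C.X₃ (isAffAcyc_X₃ (C.map (toAbEt X)) (hC.map_of_exact (toAbEt X)) hM
      (isAffAcyc_toAb_injective C.X₂)) hU z, Ext.zero_comp]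

variable [HasDerivedCategory.{u + 2} (ModEt X)]

/-- Acyclic modules have no higher cohomology on affine objects. -/
theorem van_of_acyc (M : ModEt X) (hM : IsAffAcyc ((toAbEt X).obj M)) (k : ℕ) (hk : 0 < k)
    (U : SmEt X) (hU : U ∈ affSet X) : (modEtSecs X).Van M k U := by
  haveI := enoughInjectives_modEt X
  haveI : HasExt.{u + 1} (ModEt X) := hasExt_of_enoughInjectives _
  obtain ⟨n, rfl⟩ : ∃ n, k = n + 1 := ⟨k - 1, by omega⟩
  intro φ
  haveI : Subsingleton (Ext ((freeEt X).obj (dn X U)) M (n + 1)) :=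
    subsingleton_of_forall_eq 0 fun x => ext_eq_zero_of_acyc n M hM hU x
  haveI : Subsingleton ((modEtSecs X).PD U ⟶
      ((DerivedCategory.singleFunctor (ModEt X) 0).obj M)⟦((n + 1 : ℕ) : ℤ)⟧) :=
    (Ext.homEquiv (X := (freeEt X).obj (dn X U)) (Y := M) (n := n + 1)).symm.subsingleton
  exact Subsingleton.elim _ _

/-- Quasi-coherent modules have no higher cohomology on affine objects. -/
theorem van_of_isQuasicoherent (M : ModEt X) (hM : M.IsQuasicoherent) (k : ℕ) (hk : 0 < k)
    (U : SmEt X) (hU : U ∈ affSet X) : (modEtSecs X).Van M k U :=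
  van_of_acyc M (isAffAcyc_toAb M (isQuasicoherent_iff_good.1 hM)) k hk U hU

/-- Objects with quasi-coherent cohomology are good on affine objects. -/
theorem good_of_isQCoh (E : DerivedCategory (ModEt X))
    (hE : ∀ q : ℤ, ((DerivedCategory.homologyFunctor (ModEt X) q).obj E).IsQuasicoherent)
    (U : SmEt X) (hU : U ∈ affSet X) : (modEtSecs X).Good E 0 U :=
  fun q k hk => van_of_isQuasicoherent _ (hE q) k hk U hU

end Groth.Agent.AlgSpDer
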