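import Groth.Agent.AlgSpDer.PushClass
import Groth.Agent.AlgSpDer.Cls
import Groth.Agent.AlgSpDer.Van
import Groth.Agent.AlgSpMod.Push
import Groth.Agent.AlgSpMod.PullQCoh
import Groth.Agent.AlgSpMod.Exact
import Groth.Agent.SiteCmpLib.Secs.DerivedProps

/-!
# Affine direct image reflects isomorphisms on objects with quasi-coherent cohomology
-/

set_option autoImplicit false
set_option backward.isDefEq.respectTransparency false
set_option backward.isDefEq.respectTransparency.types false

universe w u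

open CategoryTheory CategoryTheory.Limits AlgebraicGeometry Opposite AlgSp Pretriangulated TensorProduct
open Groth.Agent Groth.Agent.AlgSpMod Groth.Agent.SiteCmpLib Groth.Agent.AlgSpLib Groth.Agent.AlgSpDec

namespace Groth.Agent.AlgSpDer

variable {S : Scheme.{u}} {X Y : Sp S} {f : X ⟶ Y} (hf : Representable f)

/-- Sections of a direct image are sections over the base change. -/
noncomputable def pushModData : Secs.PushData (modEtSecs X) (modEtSecs Y) (pushModEt hf) where
  u V := (eSm X).functor.obj (EtOver.bcObj hf (dn Y V))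
  τ V M := ((modEtSecs Y).sec V ((pushModEt hf).obj M)).trans
    ((modEtSecs X).sec ((eSm X).functor.obj (EtOver.bcObj hf (dn Y V))) M).symm
  τ_comp V {M N} a g := by
    apply ((modEtSecs X).sec _ N).injective
    refine ((AddEquiv.apply_symm_apply _ _).trans ?_).trans ((modEtSecs X).sec_comp _ _ _).symm
    refine ((modEtSecs Y).sec_comp V a ((pushModEt hf).map g)).trans ?_
    exact (congrArg _ (AddEquiv.apply_symm_apply _ _)).symm

/-- Base change on the small models. -/
noncomputable def pushModRes {V W : SmEt Y} (g : W ⟶ V) : (pushModData hf).u W ⟶ (pushModData hf).u V :=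
  (eSm X).functor.map (EtOver.bcMap hf ((eSm Y).inverse.map g))

theorem pushModData_res {V W : SmEt Y} (g : W ⟶ V) (M : ModEt X)
    (b : (modEtSecs Y).P.obj V ⟶ (pushModEt hf).obj M) :
    (pushModData hf).τ W M ((modEtSecs Y).P.map g ≫ b) =
      (modEtSecs X).P.map (pushModRes hf g) ≫ (pushModData hf).τ V M b := by
  apply ((modEtSecs X).sec _ M).injective
  refine ((AddEquiv.apply_symm_apply _ _).trans ?_).trans ((modEtSecs X).sec_map _ _).symm
  refine ((modEtSecs Y).sec_map g b).trans ?_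
  exact (congrArg _ (AddEquiv.apply_symm_apply _ _)).symm

theorem pushModRes_cover {V : SmEt Y} (R : Sieve V) (hR : R ∈ smTop Y V) (T : Sieve ((pushModData hf).u V))
    (hT : ∀ {W : SmEt Y} (g : W ⟶ V), R g → T (pushModRes hf g)) : T ∈ smTop X _ := by
  rw [mem_smTop_iff] at hR ⊢
  refine (etTop X).superset_covering ?_ ((coverPreserving_bc hf).cover_preserve hR)
  rintro Z k ⟨A, a, c, ⟨A', a', c', ha', rfl⟩, rfl⟩
  exact ⟨(pushModData hf).u A', pushModRes hf a', c ≫ (EtOver.bc hf).map c', hT a' ha', by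
    rw [Functor.map_comp, ← Category.assoc]
    rfl⟩

/-- A good module is zero if its sections over base changed affine objects vanish. -/
theorem isZero_of_bcObj (hY : IsAlgSpace Y) (hA : ∀ E : EtOver Y, Aff E → Aff (EtOver.bcObj hf E))
    (M : ModEt X) (hM : Good M) (h : ∀ E : EtOver Y, Aff E → Subsingleton (sectModEt M (EtOver.bcObj hf E))) :
    IsZero M := by
  have hF : ∀ (E : EtOver Y) (F : EtOver X) (g : F ⟶ EtOver.bcObj hf E), Aff E → Aff F →
      Subsingleton (sectModEt M F) := by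
    intro E F g hE hF
    have : Subsingleton (SA M (𝟙 (EtOver.bcObj hf E))) := h E hE
    exact (hM.bij g (hA E hE) hF).surjective.subsingleton
  have hU : ∀ U : EtOver X, Aff U → ∀ s : sectModEt M U, s = 0 := by
    intro U hU s
    haveI := hU
    obtain ⟨κ, _, E, F, g₁, g₂, hE, hF', hs⟩ := exists_cover_bcObj hf hY hA U
    obtain ⟨n, ⟨e⟩⟩ := Finite.exists_equiv_fin κ
    refine ext_of_cover' M (fun i : ULift.{u} (Fin n) => g₁ (e.symm i.down))
      (AlgSp.ofArrows_mem_etTop _ _ fun x => ?_) fun i => ?_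
    · obtain ⟨k, hk⟩ := hs x
      refine ⟨⟨e k⟩, ?_⟩
      rw [show e.symm (⟨e k⟩ : ULift.{u} (Fin n)).down = k from e.symm_apply_apply k]
      exact hk
    · exact @Subsingleton.elim _ (hF _ _ (g₂ _) (hE _) (hF' _)) _ _
  rw [IsZero.iff_id_eq_zero]
  refine SheafOfModules.Hom.ext (PresheafOfModules.hom_ext fun U => ?_)
  refine ModuleCat.hom_ext (LinearMap.ext fun s => ?_)
  obtain ⟨κ, V, g, hV, hcov⟩ := exists_affine_open_cover U.unop
  exact ext_of_cover' M g hcov fun k =>
    (hU _ (hV k) _).trans (hU _ (hV k) _).symm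

/-- The middle term of a five term exact sequence of good modules is good. -/
theorem good_of_five {X₁ X₂ X₃ X₄ X₅ : ModEt X}
    {f₁ : X₁ ⟶ X₂} {f₂ : X₂ ⟶ X₃} {f₃ : X₃ ⟶ X₄} {f₄ : X₄ ⟶ X₅}
    {w₁ : f₁ ≫ f₂ = 0} {w₂ : f₂ ≫ f₃ = 0} {w₃ : f₃ ≫ f₄ = 0}
    (e₁ : (ShortComplex.mk f₁ f₂ w₁).Exact) (e₂ : (ShortComplex.mk f₂ f₃ w₂).Exact)
    (e₃ : (ShortComplex.mk f₃ f₄ w₃).Exact) (h₁ : Good X₁) (h₂ : Good X₂) (h₄ : Good X₄) (h₅ : Good X₅) :
    Good X₃ := by
  let C : ShortComplex (ModEt X) := ShortComplex.mk (cokernel.desc f₁ f₂ w₁) (kernel.lift f₄ f₃ w₃)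
    (by rw [← cancel_epi (cokernel.π f₁), ← cancel_mono (kernel.ι f₄)]; simp [w₂])
  have hC : C.ShortExact := by
    refine ShortComplex.ShortExact.mk' ?_ e₁.mono_cokernelDesc e₃.epi_kernelLift
    rw [ShortComplex.exact_iff_exact_up_to_refinements]
    intro T x hx
    have : x ≫ f₃ = 0 := by
      have := congrArg (fun t => t ≫ kernel.ι f₄) hx
      simpa [C] using this
    obtain ⟨T', π, hπ, y, hy⟩ := e₂.exact_up_to_refinements x this
    exact ⟨T', π, hπ, y ≫ cokernel.π f₁, by simpa [C] using hy⟩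
  exact good_of_extension C hC
    (good_of_right_exact (ShortComplex.mk f₁ (cokernel.π f₁) (cokernel.condition f₁))
      (ShortComplex.exact_of_g_is_cokernel _ (cokernelIsCokernel f₁)) inferInstance h₁ h₂)
    (good_of_left_exact (ShortComplex.mk (kernel.ι f₄) f₄ (kernel.condition f₄))
      (ShortComplex.exact_of_f_is_kernel _ (kernelIsKernel f₄)) inferInstance h₄ h₅)

variable [HasDerivedCategory.{w} (ModEt X)] [HasDerivedCategory.{w} (ModEt Y)]

/-- An object with quasi-coherent cohomology is zero if its derived direct image along an affine morphism is. -/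
theorem isZero_of_isZero_RG [((pushModEt hf).mapHomotopyCategory (ComplexShape.up ℤ) ⋙
      DerivedCategory.Qh).HasRightDerivedFunctor (HomotopyCategory.quasiIso (ModEt X) (ComplexShape.up ℤ))]
    (hY : IsAlgSpace Y) (hA : ∀ E : EtOver Y, Aff E → Aff (EtOver.bcObj hf E)) (Z : DerivedCategory (ModEt X))
    (hZ : ∀ j : ℤ, Good ((DerivedCategory.homologyFunctor (ModEt X) j).obj Z))
    (hgood : ∀ U ∈ affSet X, (modEtSecs X).Good Z 0 U)
    (h0 : IsZero ((Secs.RG (pushModEt hf)).obj Z)) : IsZero Z := by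
  haveI := isGrothendieckAbelian_modEt X
  suffices h : ∀ j : ℤ, IsZero ((DerivedCategory.homologyFunctor (ModEt X) j).obj Z) by
    have : IsIso (0 : Z ⟶ Z) := (DerivedCategory.isIso_iff _ _).2 fun i =>
      ⟨0, (h i).eq_of_src _ _, (h i).eq_of_src _ _⟩
    exact (IsZero.iff_id_eq_zero Z).2 ((IsIso.hom_inv_id (0 : Z ⟶ Z)).symm.trans zero_comp)
  intro j
  refine isZero_of_bcObj hf hY hA _ (hZ j) fun E hE => subsingleton_of_forall_eq 0 fun s => ?_
  let V : SmEt Y := (eSm Y).functor.obj E
  obtain ⟨a, ha⟩ := (cls_bijective (modEtSecs X) Z (isCoveredBy_affSet X) hgood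
    (U := (pushModData hf).u V) (hA _ hE) j).2 s
  rw [← ha]
  exact cls_eq_zero_of_isZero_push (pushModEt hf) (pushModData hf) (fun g => pushModRes hf g)
    (fun g M b => pushModData_res hf g M b) (fun R hR T hT => pushModRes_cover hf R hR T hT) Z j
    (Functor.map_isZero _ h0) V a

end Groth.Agent.AlgSpDer
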