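import Groth.Agent.AlgSpDer.Tower
import Groth.Agent.SiteCmpLib.Secs.Vanish

/-!
# Derived limits of inverse systems of objects in degree zero, in categories with sections
-/

set_option autoImplicit false

universe w u

open CategoryTheory CategoryTheory.Limits Opposite Pretriangulated DerivedCategory

namespace Groth.Agent.AlgSpDer

open Groth.Agent.SiteCmpLib Groth.Agent.SiteCmpLib.Secs

variable {A : Type (u + 1)} [Category.{u} A] [Abelian A] [HasDerivedCategory.{w} A]

local notation "Φ" => DerivedCategory.singleFunctor A 0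
local notation "H" => DerivedCategory.homologyFunctor A

theorem isZero_homology_single (M : A) {q : ℤ} (hq : q ≠ 0) : IsZero ((H q).obj ((Φ).obj M)) := by
  rcases lt_or_gt_of_ne hq with h | h
  · exact isZero_of_isGE _ 0 q h
  · exact isZero_of_isLE _ 0 q h

/-- The homology of an object in degree zero. -/
noncomputable def hIso (N : A) : (H 0).obj ((Φ).obj N) ≅ N :=
  (singleFunctorCompHomologyFunctorIso A 0).app N

/-- The homology of a morphism of objects in degree zero. -/
theorem hIso_naturality {M N : A} (f : M ⟶ N) :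
    (H 0).map ((Φ).map f) ≫ (hIso N).hom = (hIso M).hom ≫ f :=
  (singleFunctorCompHomologyFunctorIso A 0).hom.naturality f

variable [IsGrothendieckAbelian.{u} A] {C : Type u} [SmallCategory C] {J : GrothendieckTopology C}
  (S : Secs J A) {B : Set C} (M : ℕ → A) (t : ∀ n, M (n + 1) ⟶ M n)

/-- The objects in degree zero. -/
noncomputable abbrev sK (n : ℕ) : DerivedCategory A := (Φ).obj (M n)

/-- The transition maps in degree zero. -/
noncomputable abbrev sT (n : ℕ) : sK M (n + 1) ⟶ sK M n := (Φ).map (t n)

theorem opSequence_w (n : ℕ) :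
    limit.π (Functor.ofOpSequence t) (op (n + 1)) ≫ t n = limit.π (Functor.ofOpSequence t) (op n) := by
  have e := limit.w (Functor.ofOpSequence t) (homOfLE (Nat.le_add_right n 1)).op
  rwa [Functor.ofOpSequence_map_homOfLE_succ t n] at e

include t in
/-- Good systems with surjective sections: the limit in degree zero is the derived limit. -/
theorem isRlimVia_single [HasProduct (sK M)] (hB : DLim.IsCoveredBy J B)
    (hG : ∀ n, ∀ V ∈ B, S.Good (sK M n) 0 V)
    (hs : ∀ (n : ℕ) (q : ℤ), ∀ V ∈ B, Function.Surjective (S.hmap (sT M t n) q V)) :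
    CohCx.IsRlimVia (sK M) (sT M t) ((Φ).obj (limit (Functor.ofOpSequence t)))
      (fun n => (Φ).map (limit.π (Functor.ofOpSequence t) (op n))) := by
  let K := sK M
  let d : ∏ᶜ K ⟶ ∏ᶜ K := Pi.lift fun n => Pi.π K n - Pi.π K (n + 1) ≫ sT M t n
  obtain ⟨L, p, δ, hT⟩ := distinguished_cocone_triangle₁ d
  let a : ∀ n, L ⟶ K n := fun n => p ≫ Pi.π K n
  have hp : Pi.lift a = p := Pi.hom_ext _ _ fun n => Pi.lift_π _ _
  have hL : CohCx.IsRlimVia K (sT M t) L a := ⟨δ, by rw [hp]; exact hT⟩
  let D := Functor.ofOpSequence t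
  let E := (Φ).obj (limit D)
  let b : ∀ n, E ⟶ K n := fun n => (Φ).map (limit.π D (op n))
  obtain ⟨e, he⟩ : ∃ e : E ⟶ L, Pi.lift b = e ≫ p :=
    Triangle.coyoneda_exact₂ _ hT (Pi.lift b) (Pi.hom_ext _ _ fun n => by
      show (Pi.lift b ≫ d) ≫ Pi.π K n = 0 ≫ Pi.π K n
      rw [Category.assoc, Pi.lift_π, Preadditive.comp_sub, zero_comp, Pi.lift_π, ← Category.assoc, Pi.lift_π,
        sub_eq_zero]
      exact ((congrArg (Φ).map (opSequence_w M t n)).symm.trans ((Φ).map_comp _ _)))
  have hea : ∀ n, e ≫ a n = b n := fun n => by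
    show e ≫ p ≫ Pi.π K n = b n
    rw [← Category.assoc, ← he, Pi.lift_π]
  have hinj := rlim_sections_injective S hB hG hs hL
  have hiso : ∀ q : ℤ, IsIso ((H q).map e) := fun q => by
    by_cases hq : q = 0
    · subst hq
      suffices IsIso (S.Φ.map ((H 0).map e)) from isIso_of_reflects_iso ((H 0).map e) S.Φ
      refine DLim.isIso_of_bijective_on _ hB fun U _ => ?_
      have hcomp : ∀ (n : ℕ) (x : S.P.obj U ⟶ (H 0).obj E),
          S.hmap (a n) 0 U (S.hmap e 0 U (S.sec U _ x)) =
            S.sec U _ (x ≫ (H 0).map (b n)) := fun n x => by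
        show S.hmap (a n) 0 U (((S.Φ.map ((H 0).map e)).hom.app (op U)).hom (S.sec U _ x)) = _
        rw [← S.sec_comp]
        show ((S.Φ.map ((H 0).map (a n))).hom.app (op U)).hom (S.sec U _ (x ≫ (H 0).map e)) = _
        rw [← S.sec_comp, Category.assoc, ← Functor.map_comp, hea]
      constructor
      · intro s s' h
        obtain ⟨x, rfl⟩ := (S.sec U _).surjective s
        obtain ⟨x', rfl⟩ := (S.sec U _).surjective s'
        refine congrArg _ ((cancel_mono (hIso (limit D)).hom).1 (limit.hom_ext fun n => ?_))
        have h' : x ≫ (H 0).map (b n.unop) = x' ≫ (H 0).map (b n.unop) :=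
          (S.sec U _).injective ((hcomp n.unop x).symm.trans
            ((congrArg (S.hmap (a n.unop) 0 U) h).trans (hcomp n.unop x')))
        rw [Category.assoc, Category.assoc, ← hIso_naturality (limit.π D n)]
        exact ((Category.assoc _ _ _).symm.trans (congrArg (· ≫ _) h')).trans (Category.assoc _ _ _)
      · intro y
        choose x hx using fun n => (S.sec U ((H 0).obj (K n))).surjective (S.hmap (a n) 0 U y)
        have hw : ∀ n, x (n + 1) ≫ (H 0).map (sT M t n) = x n := fun n => by
          refine (S.sec U _).injective ?_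
          rw [S.sec_comp, hx, hx]
          have := congrArg (fun g => S.hmap g 0 U y) (DLim.rlim_comp_t hL n)
          refine Eq.trans ?_ this
          show S.hmap (sT M t n) 0 U (S.hmap (a (n + 1)) 0 U y) = _
          simp only [hmap, Functor.map_comp]
          rfl
        let c : Cone D := Cone.mk (S.P.obj U) (NatTrans.ofOpSequence (fun n => x n ≫ (hIso (M n)).hom) fun n => by
          refine (Category.id_comp _).trans ?_
          refine Eq.trans ?_ (congrArg ((x (n + 1) ≫ (hIso (M (n + 1))).hom) ≫ ·)
            (Functor.ofOpSequence_map_homOfLE_succ t n).symm)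
          exact (congrArg (· ≫ (hIso (M n)).hom) (hw n).symm).trans ((Category.assoc _ _ _).trans
            ((congrArg (x (n + 1) ≫ ·) (hIso_naturality (t n))).trans (Category.assoc _ _ _).symm)))
        refine ⟨S.sec U _ (limit.lift D c ≫ (hIso (limit D)).inv), sub_eq_zero.1 (hinj 0 U _ fun n => ?_)⟩
        rw [map_sub, sub_eq_zero]
        refine (hcomp n _).trans ((congrArg (S.sec U _) ?_).trans (hx n))
        refine (cancel_mono (hIso (M n)).hom).1 ?_
        rw [Category.assoc, Category.assoc]
        refine (congrArg (fun m => limit.lift D c ≫ (hIso (limit D)).inv ≫ m)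
          (hIso_naturality (limit.π D (op n)))).trans ?_
        rw [Iso.inv_hom_id_assoc]
        exact limit.lift_π c (op n)
    · refine (isZero_homology_single (limit D) hq).isIso ?_ _
      refine S.isZero_of_sections _ fun U s => hinj q U s fun n => ?_
      exact @Subsingleton.elim _ (subsingleton_sections_of_isZero S (isZero_homology_single (M n) hq) U) _ _
  haveI he' : IsIso e := (DerivedCategory.isIso_iff _ e).2 hiso
  let eI : E ≅ L := @asIso _ _ _ _ e he'
  refine ⟨δ ≫ eI.inv⟦(1 : ℤ)⟧', isomorphic_distinguished _ hT _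
    (Triangle.isoMk _ _ eI (Iso.refl _) (Iso.refl _) ?_ ?_ ?_)⟩
  · exact (Category.comp_id _).trans he
  · exact (Category.comp_id _).trans (Category.id_comp _).symm
  · refine (Category.assoc _ _ _).trans (Eq.trans ?_ (Category.id_comp δ).symm)
    refine (congrArg (δ ≫ ·) ?_).trans (Category.comp_id δ)
    exact (Functor.map_comp _ _ _).symm.trans
      ((congrArg _ eI.inv_hom_id).trans (CategoryTheory.Functor.map_id _ _))

include t in
/-- The limit of a good system with surjective sections has no higher cohomology on the covering set. -/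
theorem van_limit (hB : DLim.IsCoveredBy J B) (hG : ∀ n, ∀ V ∈ B, S.Good (sK M n) 0 V)
    (hs : ∀ (n : ℕ) (q : ℤ), ∀ V ∈ B, Function.Surjective (S.hmap (sT M t n) q V))
    {V : C} (hV : V ∈ B) (k : ℕ) (hk : 0 < k) :
    S.Van (limit (Functor.ofOpSequence t)) k V := by
  have := hasProduct_nat (sK M)
  intro φ
  refine class_eq_zero S hB hG hs (isRlimVia_single S M t hB hG hs) (k : ℤ) hV φ fun n => ?_
  exact @Subsingleton.elim _
    (subsingleton_sections_of_isZero S (isZero_homology_single (M n) (by omega : (k : ℤ) ≠ 0)) V) _ _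

end Groth.Agent.AlgSpDer
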