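import Groth.Agent.AlgSpDer.QCohTower
import Groth.Agent.AlgSpDer.SingleTower

/-!
# Inverse systems of quasi-coherent modules in degree zero
-/

set_option autoImplicit false
set_option backward.isDefEq.respectTransparency false
set_option backward.isDefEq.respectTransparency.types false

universe u

open CategoryTheory CategoryTheory.Limits AlgebraicGeometry Opposite AlgSp
open Groth.Agent Groth.Agent.AlgSpMod Groth.Agent.SiteCmpLib

namespace Groth.Agent.AlgSpDer

variable {S : Scheme.{u}} {X : Sp S} [HasDerivedCategory.{u + 2} (ModEt X)] (M : ℕ → ModEt X)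
  (t : ∀ n, M (n + 1) ⟶ M n) (hM : ∀ n, (M n).IsQuasicoherent)

include hM in
theorem good_sK (n : ℕ) (V : SmEt X) (hV : V ∈ affSet X) : (modEtSecs X).Good (sK M n) 0 V := by
  intro q k hk
  by_cases hq : q = 0
  · subst hq
    exact van_of_isQuasicoherent _ (isQuasicoherent_iff_good.2
      ((isQuasicoherent_iff_good.1 (hM n)).of_iso (hIso (M n)).symm)) k hk V hV
  · intro φ
    exact ((shiftFunctor _ (k : ℤ)).map_isZero
      ((DerivedCategory.singleFunctor (ModEt X) 0).map_isZero (isZero_homology_single (M n) hq))).eq_of_tgt _ _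

include hM in
theorem surjective_sT (ht : ∀ n, Epi (t n)) (n : ℕ) (q : ℤ) (V : SmEt X) (hV : V ∈ affSet X) :
    Function.Surjective ((modEtSecs X).hmap (sT M t n) q V) := by
  by_cases hq : q = 0
  · subst hq
    have hq' : ∀ m, ((DerivedCategory.homologyFunctor (ModEt X) 0).obj (sK M m)).IsQuasicoherent := fun m =>
      isQuasicoherent_iff_good.2 ((isQuasicoherent_iff_good.1 (hM m)).of_iso (hIso (M m)).symm)
    haveI : Epi ((DerivedCategory.homologyFunctor (ModEt X) 0).map (sT M t n)) := by
      haveI := ht n
      have e : (DerivedCategory.homologyFunctor (ModEt X) 0).map (sT M t n) =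
          ((hIso (M (n + 1))).hom ≫ t n) ≫ (hIso (M n)).inv := by
        rw [Iso.eq_comp_inv]
        exact hIso_naturality (t n)
      rw [e]
      infer_instance
    exact surjective_hmap (sT M t n) 0 (hq' _) (hq' _) V hV
  · intro y
    exact ⟨0, @Subsingleton.elim _ (subsingleton_sections_of_isZero (modEtSecs X) (isZero_homology_single (M n) hq) V) _ _⟩

end Groth.Agent.AlgSpDer
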