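import Groth.Agent.AlgSpDer.Cls

/-!
# Derived limits of systems with surjective sections, in categories with sections
-/

set_option autoImplicit false

universe w u

open CategoryTheory CategoryTheory.Limits Opposite Pretriangulated DerivedCategory

namespace Groth.Agent.AlgSpDer

open Groth.Agent.SiteCmpLib Groth.Agent.SiteCmpLib.Secs

variable {A : Type (u + 1)} [Category.{u} A] [Abelian A] [HasDerivedCategory.{w} A] [IsGrothendieckAbelian.{u} A]
  {C : Type u} [SmallCategory C] {J : GrothendieckTopology C} (S : Secs J A) {B : Set C}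
  {K : ℕ → DerivedCategory A} {t : ∀ n, K (n + 1) ⟶ K n} [HasProduct K] {L : DerivedCategory A}
  {a : ∀ n, L ⟶ K n}

local notation "H" => DerivedCategory.homologyFunctor A

variable (hB : DLim.IsCoveredBy J B) (hG : ∀ n, ∀ V ∈ B, S.Good (K n) 0 V)
  (hs : ∀ (n : ℕ) (q : ℤ), ∀ V ∈ B, Function.Surjective (S.hmap (t n) q V))

include hB hG

/-- A class of the derived limit is zero if its images in the sections of the cohomology are. -/
theorem class_eq_zero (hs : ∀ (n : ℕ) (q : ℤ), ∀ V ∈ B, Function.Surjective (S.hmap (t n) q V))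
    (hL : CohCx.IsRlimVia K t L a) (q : ℤ) {V : C} (hV : V ∈ B) (x : S.PD V ⟶ L⟦q⟧)
    (hx : ∀ n, S.cls (K n) q V (x ≫ (a n)⟦q⟧') = 0) : x = 0 := by
  have hb := fun n j => cls_bijective S (K n) hB (hG n) hV j
  refine DLim.rlim_eq_zero hL q (fun b => ?_) x fun n => (hb n q).1 ((hx n).trans (map_zero _).symm)
  refine DLim.limOne_of_eventually_surjective 0 (fun n => S.PD V ⟶ (K n)⟦q - 1⟧)
    (fun n => Preadditive.rightComp _ ((t n)⟦q - 1⟧')) (fun n _ z => ?_) b
  obtain ⟨v, hv⟩ := hs n (q - 1) V hV (S.cls (K n) (q - 1) V z)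
  obtain ⟨y, rfl⟩ := (hb (n + 1) (q - 1)).2 v
  exact ⟨y, (hb n (q - 1)).1 ((S.cls_comp (t n) (q - 1) V y).trans hv)⟩

include hs

/-- Sections of the cohomology of the derived limit are detected in the system. -/
theorem rlim_sections_injective (hL : CohCx.IsRlimVia K t L a) (q : ℤ) (W : C)
    (s : (S.HDs L q).obj.obj (op W)) (h : ∀ n, S.hmap (a n) q W s = 0) : s = 0 := by
  obtain ⟨R, hR, hlift⟩ := S.exists_cover_lift L q W s
  obtain ⟨ι, Y, f, hf, hcov, hY⟩ := hB.refine_cover W hR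
  refine DLim.sections_separated _ hcov s 0 ?_
  rintro Z k ⟨Z', b, c, ⟨i⟩, rfl⟩
  obtain ⟨x, hx⟩ := hlift _ (f i) (hf i)
  have hzero : x = 0 := class_eq_zero S hB hG hs hL q (hY i) x fun n => by
    rw [S.cls_comp, hx]
    exact (ConcreteCategory.congr_hom ((S.Φ.map ((H q).map (a n))).hom.naturality (f i).op) s).trans
      ((congrArg ((S.HDs (K n) q).obj.map (f i).op).hom (h n)).trans (map_zero _))
  rw [op_comp, Functor.map_comp]
  show ((S.HDs L q).obj.map b.op).hom (((S.HDs L q).obj.map (f i).op).hom s) = _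
  rw [← hx, hzero, map_zero, map_zero, map_zero]

omit hs in
/-- Compatible families of sections over members of the covering set lift. -/
theorem rlim_sections_lift (hL : CohCx.IsRlimVia K t L a) (q : ℤ) {V : C} (hV : V ∈ B)
    (x : ∀ n, (S.HDs (K n) q).obj.obj (op V)) (hx : ∀ n, S.hmap (t n) q V (x (n + 1)) = x n) :
    ∃ s, ∀ n, S.hmap (a n) q V s = x n := by
  have hb := fun n => cls_bijective S (K n) hB (hG n) hV q
  choose z hz using fun n => (hb n).2 (x n)
  obtain ⟨y, hy⟩ := DLim.rlim_exists_lift hL q z fun n => (hb n).1 (by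
    rw [S.cls_comp, hz, hz]; exact hx n)
  exact ⟨S.cls L q V y, fun n => by rw [← S.cls_comp, hy, hz]⟩

/-- Sections of the cohomology of the derived limit are compatible families of sections. -/
theorem rlim_sections_exists (hL : CohCx.IsRlimVia K t L a) (q : ℤ) (W : C)
    (x : ∀ n, (S.HDs (K n) q).obj.obj (op W)) (hx : ∀ n, S.hmap (t n) q W (x (n + 1)) = x n) :
    ∃ s, ∀ n, S.hmap (a n) q W s = x n := by
  obtain ⟨ι, Y, f, hcov, hY⟩ := hB W
  have nat : ∀ {K₁ K₂ : DerivedCategory A} (g : K₁ ⟶ K₂) {U U' : C} (k : U' ⟶ U)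
      (v : (S.HDs K₁ q).obj.obj (op U)),
      S.hmap g q U' (((S.HDs K₁ q).obj.map k.op).hom v) = ((S.HDs K₂ q).obj.map k.op).hom (S.hmap g q U v) :=
    fun g _ _ k v => ConcreteCategory.congr_hom ((S.Φ.map ((H q).map g)).hom.naturality k.op) v
  choose s₀ hs₀ using fun i => rlim_sections_lift S hB hG hL q (hY i)
    (fun n => ((S.HDs (K n) q).obj.map (f i).op).hom (x n))
    (fun n => (nat (t n) (f i) _).trans (congrArg _ (hx n)))
  have ex : ∀ (Z : C) (k : Z ⟶ W), Sieve.ofArrows Y f k →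
      ∃ v, ∀ n, S.hmap (a n) q Z v = ((S.HDs (K n) q).obj.map k.op).hom (x n) := by
    intro Z k hk
    obtain ⟨i, b, rfl⟩ := (Sieve.mem_ofArrows_iff _ _ _).1 hk
    refine ⟨((S.HDs L q).obj.map b.op).hom (s₀ i), fun n => ?_⟩
    rw [nat, hs₀, op_comp, Functor.map_comp]
    rfl
  choose v hv using ex
  have uniq : ∀ (Z : C) (v v' : (S.HDs L q).obj.obj (op Z)),
      (∀ n, S.hmap (a n) q Z v = S.hmap (a n) q Z v') → v = v' := fun Z v v' h =>
    sub_eq_zero.1 (rlim_sections_injective S hB hG hs hL q Z _ fun n => by rw [map_sub, h n, sub_self])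
  have hP := (Presheaf.isSheaf_iff_isSheaf_forget J _ (forget AddCommGrpCat.{u})).1 (S.HDs L q).property
  have hP' := ((isSheaf_iff_isSheaf_of_type _ _).1 hP) _ hcov
  let fam : Presieve.FamilyOfElements ((S.HDs L q).obj ⋙ forget AddCommGrpCat.{u}) (Sieve.ofArrows Y f).arrows :=
    fun Z k hk => v Z k hk
  have hc : fam.Compatible := by
    intro Z₁ Z₂ Z g₁ g₂ k₁ k₂ h₁ h₂ e
    refine uniq Z (((S.HDs L q).obj.map g₁.op).hom (v _ k₁ h₁)) (((S.HDs L q).obj.map g₂.op).hom (v _ k₂ h₂))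
      fun n => ?_
    rw [nat, nat, hv, hv]
    exact (ConcreteCategory.congr_hom ((S.HDs (K n) q).obj.map_comp k₁.op g₁.op) (x n)).symm.trans
      ((congrArg (fun m : Z ⟶ W => ((S.HDs (K n) q).obj.map m.op).hom (x n)) e).trans
        (ConcreteCategory.congr_hom ((S.HDs (K n) q).obj.map_comp k₂.op g₂.op) (x n)))
  let s : (S.HDs L q).obj.obj (op W) := hP'.amalgamate fam hc
  refine ⟨s, fun n => DLim.sections_separated _ hcov _ _ fun Z k hk => ?_⟩
  rw [← nat]
  exact (congrArg (S.hmap (a n) q Z) (hP'.valid_glue hc k hk)).trans (hv Z k hk n)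

end Groth.Agent.AlgSpDer
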