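import Groth.Agent.AlgSpDer.Van
import Groth.Agent.AlgSpDer.Tower
import Groth.Agent.AlgSpMod.Exact

/-!
# Inverse systems of quasi-coherent modules with surjective transition maps
-/

set_option autoImplicit false
set_option backward.isDefEq.respectTransparency false
set_option backward.isDefEq.respectTransparency.types false

universe u

open CategoryTheory CategoryTheory.Limits AlgebraicGeometry Opposite AlgSp
open Groth.Agent Groth.Agent.AlgSpMod Groth.Agent.SiteCmpLib

namespace Groth.Agent.AlgSpDer

variable {S : Scheme.{u}} {X : Sp S}

/-- An epimorphism of quasi-coherent modules is surjective on sections over affine objects. -/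
theorem surjective_app_of_epi {M N : ModEt X} (f : M ⟶ N) [Epi f] (hM : M.IsQuasicoherent) (hN : N.IsQuasicoherent)
    {V : EtOver X} (hV : Aff V) : Function.Surjective (f.val.app (op V)).hom := by
  let C := ShortComplex.mk (kernel.ι f) f (kernel.condition _)
  have hC : C.ShortExact := { exact := ShortComplex.kernelSequence_exact f }
  have h₁ : Good C.X₁ := good_of_left_exact C hC.exact inferInstance (isQuasicoherent_iff_good.1 hM)
    (isQuasicoherent_iff_good.1 hN)
  intro y
  obtain ⟨x, hx⟩ := exists_lift_of_acyc C hC (isAffAcyc_toAb _ h₁) hV ((freeSec X V N).symm y)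
  exact ⟨freeSec X V M x, (freeSec_comp X V x f).symm.trans ((congrArg _ hx).trans ((freeSec X V N).apply_symm_apply y))⟩

variable [HasDerivedCategory.{u + 2} (ModEt X)]

/-- Transition maps epimorphic on quasi-coherent cohomology are surjective on affine sections. -/
theorem surjective_hmap {K K' : DerivedCategory (ModEt X)} (g : K ⟶ K') (q : ℤ)
    (hK : ((DerivedCategory.homologyFunctor (ModEt X) q).obj K).IsQuasicoherent)
    (hK' : ((DerivedCategory.homologyFunctor (ModEt X) q).obj K').IsQuasicoherent)
    [Epi ((DerivedCategory.homologyFunctor (ModEt X) q).map g)] (V : SmEt X) (hV : V ∈ affSet X) :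
    Function.Surjective ((modEtSecs X).hmap g q V) :=
  surjective_app_of_epi ((DerivedCategory.homologyFunctor (ModEt X) q).map g) hK hK' hV

end Groth.Agent.AlgSpDer
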