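import Groth.Agent.SiteCmpLib.Secs.Derived
import Groth.Agent.TriCat.DerivedProducts
import Groth.Agent.TriCat.KInjRes
import Mathlib.Algebra.Category.Grp.AB
import Mathlib.Algebra.Homology.DerivedCategory.KInjective
import Mathlib.CategoryTheory.Abelian.GrothendieckCategory.Basic

/-!
# Cohomology of total right derived functors on countable products
-/

set_option autoImplicit false

universe w w' v u u'

open CategoryTheory CategoryTheory.Limits DerivedCategory

namespace Groth.Agent.AlgSpDer

section KInj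

variable {A : Type u} [Category.{v} A] [Abelian A] {J : Type*} [HasLimitsOfShape (Discrete J) A]

/-- A product of K-injective complexes is K-injective. -/
theorem isKInjective_pi (L : J → CochainComplex A ℤ) [∀ j, (L j).IsKInjective] : (∏ᶜ L).IsKInjective := by
  refine ⟨fun {K} f hK => ⟨HomotopyCategory.homotopyOfEq _ _
    (TriCat.quotient_hom_ext_pi f 0 fun j => HomotopyCategory.eq_of_homotopy _ _ ?_)⟩⟩
  rw [zero_comp]
  exact CochainComplex.IsKInjective.homotopyZero _ hK

end KInj

section Ab

variable {J : Type*} {M : J → CochainComplex AddCommGrpCat.{u'} ℤ} {P : CochainComplex AddCommGrpCat.{u'} ℤ}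

/-- The homology of a product of complexes of abelian groups is the product of the homologies. -/
theorem bijective_homology_pi (p : ∀ n, P ⟶ M n)
    (hp : ∀ j : ℤ, Function.Bijective fun (x : P.X j) (n : J) => ((p n).f j).hom x) (i : ℤ) :
    Function.Bijective fun (z : P.homology i) (n : J) => (HomologicalComplex.homologyMap (p n) i).hom z := by
  have hπ : ∀ K : CochainComplex AddCommGrpCat.{u'} ℤ, Function.Surjective (K.homologyπ i).hom := fun K =>
    (AddCommGrpCat.epi_iff_surjective _).1 inferInstance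
  have hι : ∀ K : CochainComplex AddCommGrpCat.{u'} ℤ, Function.Injective (K.iCycles i).hom := fun K =>
    (AddCommGrpCat.mono_iff_injective _).1 inferInstance
  have nat : ∀ (n : J) (c : P.cycles i), (HomologicalComplex.homologyMap (p n) i).hom ((P.homologyπ i).hom c) =
      ((M n).homologyπ i).hom ((HomologicalComplex.cyclesMap (p n) i).hom c) := fun n c =>
    ConcreteCategory.congr_hom (HomologicalComplex.homologyπ_naturality (p n) i) c
  have natι : ∀ (n : J) (c : P.cycles i), ((M n).iCycles i).hom ((HomologicalComplex.cyclesMap (p n) i).hom c) =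
      ((p n).f i).hom ((P.iCycles i).hom c) := fun n c =>
    ConcreteCategory.congr_hom (HomologicalComplex.cyclesMap_i (p n) i) c
  constructor
  · intro z z' h
    refine sub_eq_zero.1 ?_
    obtain ⟨c, hc⟩ := hπ P (z - z')
    rw [← hc]
    have h0 : ∀ n, ∃ w : (M n).X (i - 1),
        ((M n).toCycles (i - 1) i).hom w = (HomologicalComplex.cyclesMap (p n) i).hom c := fun n => by
      have hex : (ShortComplex.mk ((M n).toCycles (i - 1) i) ((M n).homologyπ i) (by simp)).Exact :=
        ShortComplex.exact_of_g_is_cokernel _ ((M n).homologyIsCokernel (i - 1) i (by simp))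
      refine (ShortComplex.ab_exact_iff _).1 hex _ ?_
      refine (nat n c).symm.trans ?_
      rw [hc, map_sub, sub_eq_zero]
      exact congrFun h n
    choose w hw using h0
    obtain ⟨w', hw'⟩ := (hp (i - 1)).2 w
    have : (P.toCycles (i - 1) i).hom w' = c := by
      refine hι P ((hp i).1 (funext fun n => ?_))
      show ((p n).f i).hom ((P.iCycles i).hom ((P.toCycles (i - 1) i).hom w')) = ((p n).f i).hom ((P.iCycles i).hom c)
      rw [← natι n c, ← hw n]
      refine (congrArg ((p n).f i).hom (ConcreteCategory.congr_hom (P.toCycles_i (i - 1) i) w')).trans ?_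
      refine Eq.trans ?_ (ConcreteCategory.congr_hom ((M n).toCycles_i (i - 1) i) (w n)).symm
      refine (ConcreteCategory.congr_hom ((p n).comm (i - 1) i) w').symm.trans ?_
      exact congrArg ((M n).d (i - 1) i).hom (congrFun hw' n)
    rw [← this]
    exact ConcreteCategory.congr_hom (P.toCycles_comp_homologyπ (i - 1) i) w'
  · intro z
    choose c hc using fun n => hπ (M n) (z n)
    obtain ⟨x, hx⟩ := (hp i).2 fun n => ((M n).iCycles i).hom (c n)
    have hd : (P.d i (i + 1)).hom x = 0 := (hp (i + 1)).1 (funext fun n => by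
      show ((p n).f (i + 1)).hom ((P.d i (i + 1)).hom x) = ((p n).f (i + 1)).hom 0
      rw [map_zero]
      refine (ConcreteCategory.congr_hom ((p n).comm i (i + 1)) x).symm.trans ?_
      refine (congrArg ((M n).d i (i + 1)).hom (congrFun hx n)).trans ?_
      exact ConcreteCategory.congr_hom ((M n).iCycles_d i (i + 1)) (c n))
    have hex : (ShortComplex.mk (P.iCycles i) (P.d i (i + 1)) (by simp)).Exact :=
      ShortComplex.exact_of_f_is_kernel _ (P.cyclesIsKernel i (i + 1) (by simp))
    obtain ⟨c', hc'⟩ := (ShortComplex.ab_exact_iff _).1 hex x hd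
    refine ⟨(P.homologyπ i).hom c', funext fun n => ?_⟩
    refine (nat n c').trans ((congrArg ((M n).homologyπ i).hom (hι (M n) ?_)).trans (hc n))
    exact (natι n c').trans ((congrArg ((p n).f i).hom hc').trans (congrFun hx n))

end Ab

variable {A : Type u} [Category.{v} A] [Abelian A] [IsGrothendieckAbelian.{v} A] [HasDerivedCategory.{w} A]
  [HasDerivedCategory.{w'} AddCommGrpCat.{u'}]
  (G : A ⥤ AddCommGrpCat.{u'}) [G.Additive] [PreservesLimitsOfShape (Discrete ℕ) G]
  [(G.mapHomotopyCategory (ComplexShape.up ℤ) ⋙ Qh).HasRightDerivedFunctor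
      (HomotopyCategory.quasiIso A (ComplexShape.up ℤ))]

/-- The total right derived functor. -/
noncomputable abbrev RT : DerivedCategory A ⥤ DerivedCategory AddCommGrpCat.{u'} :=
  (G.mapHomotopyCategory (ComplexShape.up ℤ) ⋙ Qh).totalRightDerived Qh
    (HomotopyCategory.quasiIso A (ComplexShape.up ℤ))

/-- The image of a complex in the derived category, through the homotopy category. -/
noncomputable abbrev QQ (L : CochainComplex A ℤ) : DerivedCategory A :=
  Qh.obj ((HomotopyCategory.quotient A (ComplexShape.up ℤ)).obj L)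

/-- The image of a morphism of complexes in the derived category. -/
noncomputable abbrev QQm {L L' : CochainComplex A ℤ} (f : L ⟶ L') : QQ L ⟶ QQ L' :=
  Qh.map ((HomotopyCategory.quotient A (ComplexShape.up ℤ)).map f)

omit [PreservesLimitsOfShape (Discrete ℕ) G] in
/-- The derived functor on K-injective complexes is computed termwise, naturally. -/
theorem exists_homology_RT_iso (i : ℤ) :
    ∃ e : ∀ (I : CochainComplex A ℤ), I.IsKInjective →
      ((homologyFunctor AddCommGrpCat.{u'} i).obj ((RT G).obj (QQ I)) ≅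
        ((G.mapHomologicalComplex (ComplexShape.up ℤ)).obj I).homology i),
      ∀ (I I' : CochainComplex A ℤ) (h : I.IsKInjective) (h' : I'.IsKInjective) (f : I ⟶ I'),
        (homologyFunctor _ i).map ((RT G).map (QQm f)) ≫ (e I' h').hom =
          (e I h).hom ≫ HomologicalComplex.homologyMap ((G.mapHomologicalComplex (ComplexShape.up ℤ)).map f) i := by
  let q := HomotopyCategory.quotient A (ComplexShape.up ℤ)
  let η := (G.mapHomotopyCategory (ComplexShape.up ℤ) ⋙ Qh).totalRightDerivedUnit Qh
    (HomotopyCategory.quasiIso A (ComplexShape.up ℤ))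
  let ν : q ⋙ G.mapHomotopyCategory (ComplexShape.up ℤ) ⋙ Qh ⋙ homologyFunctor _ i ≅
      G.mapHomologicalComplex (ComplexShape.up ℤ) ⋙ HomologicalComplex.homologyFunctor _ _ i :=
    Functor.isoWhiskerLeft q (Functor.isoWhiskerLeft (G.mapHomotopyCategory (ComplexShape.up ℤ))
      (homologyFunctorFactorsh AddCommGrpCat.{u'} i)) ≪≫
    (Functor.associator _ _ _).symm ≪≫
    Functor.isoWhiskerRight (G.mapHomotopyCategoryFactors (ComplexShape.up ℤ)) _ ≪≫
    Functor.associator _ _ _ ≪≫
    Functor.isoWhiskerLeft (G.mapHomologicalComplex (ComplexShape.up ℤ))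
      (HomotopyCategory.homologyFunctorFactors _ _ i)
  refine ⟨fun I hI =>
    haveI := hI
    haveI := SiteCmpLib.Secs.isIso_unit_of_kInj (G.mapHomotopyCategory (ComplexShape.up ℤ) ⋙ Qh) I
    (homologyFunctor _ i).mapIso (asIso (η.app (q.obj I))).symm ≪≫ ν.app I, fun I I' hI hI' f => ?_⟩
  haveI := hI
  haveI := hI'
  haveI := SiteCmpLib.Secs.isIso_unit_of_kInj (G.mapHomotopyCategory (ComplexShape.up ℤ) ⋙ Qh) I
  haveI := SiteCmpLib.Secs.isIso_unit_of_kInj (G.mapHomotopyCategory (ComplexShape.up ℤ) ⋙ Qh) I'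
  have h1 : (RT G).map (QQm f) ≫ inv (η.app (q.obj I')) =
      inv (η.app (q.obj I)) ≫ (G.mapHomotopyCategory (ComplexShape.up ℤ) ⋙ Qh).map (q.map f) := by
    rw [IsIso.comp_inv_eq, Category.assoc, IsIso.eq_inv_comp]
    exact (η.naturality (q.map f)).symm
  let Hi := homologyFunctor AddCommGrpCat.{u'} i
  show Hi.map ((RT G).map (QQm f)) ≫ Hi.map (inv (η.app (q.obj I'))) ≫ ν.hom.app I' =
    (Hi.map (inv (η.app (q.obj I))) ≫ ν.hom.app I) ≫ _
  refine (Category.assoc _ _ _).symm.trans ?_
  refine (congrArg (· ≫ ν.hom.app I') ((Hi.map_comp _ _).symm.trans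
    ((congrArg Hi.map h1).trans (Hi.map_comp _ _)))).trans ?_
  exact (Category.assoc _ _ _).trans
    ((congrArg (Hi.map (inv (η.app (q.obj I))) ≫ ·) (ν.hom.naturality f)).trans (Category.assoc _ _ _).symm)

/-- The cohomology of the derived functor on a countable product is the product of the cohomologies. -/
theorem bijective_homology_RT_pi (K : ℕ → DerivedCategory A) [HasProduct K] (i : ℤ) :
    Function.Bijective fun (x : (homologyFunctor AddCommGrpCat.{u'} i).obj ((RT G).obj (∏ᶜ K))) (n : ℕ) =>
      ((homologyFunctor AddCommGrpCat.{u'} i).map ((RT G).map (Pi.π K n))).hom x := by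
  have : ∀ n, ∃ I : CochainComplex A ℤ, I.IsKInjective ∧ Nonempty (QQ I ≅ K n) := fun n => by
    obtain ⟨L, ⟨e⟩⟩ : ∃ L, Nonempty (Q.obj L ≅ K n) := ⟨_, ⟨Q.objObjPreimageIso (K n)⟩⟩
    obtain ⟨I, f, hI, hf, -, -⟩ := TriCat.exists_kInjective_resolution'.{v} L
    haveI := hf
    exact ⟨I, hI, ⟨(quotientCompQhIso A).app I ≪≫ (asIso (Q.map f)).symm ≪≫ e⟩⟩
  choose I hI eI using this
  let e := fun n => (eI n).some
  haveI := hI
  let P := ∏ᶜ I
  haveI : P.IsKInjective := isKInjective_pi I
  let ψ : QQ P ⟶ ∏ᶜ K := Pi.lift fun n => QQm (Pi.π I n) ≫ (e n).hom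
  have hψ : ∀ Z : DerivedCategory A, Function.Bijective fun g : Z ⟶ QQ P => g ≫ ψ := by
    intro Z
    obtain ⟨L, ⟨z⟩⟩ : ∃ L, Nonempty (QQ L ≅ Z) :=
      ⟨_, ⟨(quotientCompQhIso A).app _ ≪≫ Q.objObjPreimageIso Z⟩⟩
    have hb := fun n => CochainComplex.IsKInjective.Qh_map_bijective
      ((HomotopyCategory.quotient A (ComplexShape.up ℤ)).obj L) (I n)
    constructor
    · intro g g' h
      refine (cancel_epi z.hom).1 ?_
      obtain ⟨a, ha⟩ := (CochainComplex.IsKInjective.Qh_map_bijective _ P).2 (z.hom ≫ g)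
      obtain ⟨a', ha'⟩ := (CochainComplex.IsKInjective.Qh_map_bijective _ P).2 (z.hom ≫ g')
      rw [← ha, ← ha']
      obtain ⟨b, rfl⟩ := (HomotopyCategory.quotient A (ComplexShape.up ℤ)).map_surjective a
      obtain ⟨b', rfl⟩ := (HomotopyCategory.quotient A (ComplexShape.up ℤ)).map_surjective a'
      refine congrArg _ (TriCat.quotient_hom_ext_pi b b' fun n => (hb n).1 ?_)
      rw [Functor.map_comp, Functor.map_comp, Functor.map_comp, Functor.map_comp]
      refine (cancel_mono (e n).hom).1 ?_
      have := congrArg (fun m => (z.hom ≫ m) ≫ Pi.π K n) h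
      simp only [ψ, Category.assoc, Pi.lift_π] at this
      rw [ha, ha']
      simpa only [Category.assoc] using this
    · intro y
      choose a ha using fun n => (hb n).2 (z.hom ≫ y ≫ Pi.π K n ≫ (e n).inv)
      choose b hb' using fun n => (HomotopyCategory.quotient A (ComplexShape.up ℤ)).map_surjective (a n)
      refine ⟨z.inv ≫ QQm (Pi.lift b : L ⟶ P), Pi.hom_ext _ _ fun n => ?_⟩
      rw [← cancel_mono (e n).inv]
      simp only [ψ, Category.assoc, Pi.lift_π, Iso.hom_inv_id, Category.comp_id]
      rw [← Functor.map_comp, ← Functor.map_comp, Pi.lift_π, hb' n, ha n, Iso.inv_hom_id_assoc]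
  haveI : IsIso ψ := by
    obtain ⟨σ, hσ⟩ := (hψ _).2 (𝟙 _)
    refine ⟨σ, (hψ _).1 ?_, hσ⟩
    show (ψ ≫ σ) ≫ ψ = 𝟙 _ ≫ ψ
    rw [Category.assoc]
    exact (congrArg (ψ ≫ ·) hσ).trans ((Category.comp_id _).trans (Category.id_comp _).symm)
  obtain ⟨E, hE⟩ := exists_homology_RT_iso G i
  let GC := G.mapHomologicalComplex (ComplexShape.up ℤ)
  have hp : ∀ j : ℤ, Function.Bijective fun (x : (GC.obj P).X j) (n : ℕ) => ((GC.map (Pi.π I n)).f j).hom x := by
    intro j
    have hl : IsLimit (Fan.mk ((GC.obj P).X j) fun n => (GC.map (Pi.π I n)).f j) :=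
      isLimitFanMkObjOfIsLimit (HomologicalComplex.eval A (ComplexShape.up ℤ) j ⋙ G) I (Pi.π I)
        (productIsProduct I)
    refine ⟨fun x y h => Concrete.isLimit_ext _ hl x y fun ⟨n⟩ => congrFun h n, fun f => ?_⟩
    let el := hl.conePointUniqueUpToIso
      (productIsProduct fun n => G.obj ((I n).X j))
    obtain ⟨x, hx⟩ : ∃ x, ∀ n, (Pi.π (fun n => G.obj ((I n).X j)) n).hom x = f n :=
      ⟨(Concrete.productEquiv fun n => G.obj ((I n).X j)).symm f,
        fun n => Concrete.productEquiv_symm_apply_π _ f n⟩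
    refine ⟨el.inv.hom x, funext fun n => ?_⟩
    exact (ConcreteCategory.congr_hom (hl.conePointUniqueUpToIso_inv_comp _ ⟨n⟩) x).trans (hx n)
  have hb := bijective_homology_pi (fun n => GC.map (Pi.π I n)) hp i
  let Hi := homologyFunctor AddCommGrpCat.{u'} i
  let a : ((GC.obj P).homology i : Type u') ≃ (Hi.obj ((RT G).obj (∏ᶜ K)) : Type u') :=
    ((E P inferInstance).symm ≪≫ Hi.mapIso ((RT G).mapIso (asIso ψ))).addCommGroupIsoToAddEquiv.toEquiv
  let b : ((n : ℕ) → ((GC.obj (I n)).homology i : Type u')) ≃ ((n : ℕ) → (Hi.obj ((RT G).obj (K n)) : Type u')) :=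
    Equiv.piCongrRight fun n =>
      ((E (I n) (hI n)).symm ≪≫ Hi.mapIso ((RT G).mapIso (e n))).addCommGroupIsoToAddEquiv.toEquiv
  refine (Function.Bijective.of_comp_iff _ a.bijective).1 ?_
  refine (congrArg Function.Bijective (funext fun z => funext fun n => ?_)).mp (b.bijective.comp hb)
  have key : ((E P inferInstance).inv ≫ Hi.map ((RT G).map ψ)) ≫ Hi.map ((RT G).map (Pi.π K n)) =
      HomologicalComplex.homologyMap (GC.map (Pi.π I n)) i ≫ (E (I n) (hI n)).inv ≫
        Hi.map ((RT G).map (e n).hom) := by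
    have h2 : HomologicalComplex.homologyMap (GC.map (Pi.π I n)) i ≫ (E (I n) (hI n)).inv =
        (E P inferInstance).inv ≫ Hi.map ((RT G).map (QQm (Pi.π I n))) := by
      rw [Iso.comp_inv_eq, Category.assoc, hE P (I n) inferInstance (hI n), Iso.inv_hom_id_assoc]
    rw [← Category.assoc (HomologicalComplex.homologyMap _ _), h2, Category.assoc, Category.assoc,
      ← Functor.map_comp, ← Functor.map_comp, ← Functor.map_comp, ← Functor.map_comp]
    simp only [ψ, Pi.lift_π]
  exact (ConcreteCategory.congr_hom key z).symm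

end Groth.Agent.AlgSpDer
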