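import Groth.Agent.AlgSpDer.RGProd
import Groth.Agent.SiteCmpLib.Secs.Bounded
import Groth.Agent.SiteCmpLib.Secs.Amplitude

/-!
# Total right derived functors of bounded cohomological dimension with values in abelian groups
-/

set_option autoImplicit false

universe w w' u u'

open CategoryTheory CategoryTheory.Limits DerivedCategory Pretriangulated

namespace Groth.Agent.AlgSpDer

variable {A : Type (u + 1)} [Category.{u} A] [Abelian A] [IsGrothendieckAbelian.{u} A]
  [HasDerivedCategory.{w} A] [HasDerivedCategory.{w'} AddCommGrpCat.{u'}]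
  (G : A ⥤ AddCommGrpCat.{u'}) [G.Additive] [PreservesLimitsOfShape (Discrete ℕ) G]
  [(G.mapHomotopyCategory (ComplexShape.up ℤ) ⋙ Qh).HasRightDerivedFunctor
      (HomotopyCategory.quasiIso A (ComplexShape.up ℤ))]

local notation "tS" => (DerivedCategory.TStructure.t (C := A))

section Tower

variable {K : ℕ → DerivedCategory A} {t : ∀ n, K (n + 1) ⟶ K n} [HasProduct K] {L : DerivedCategory A}
  {a : ∀ n, L ⟶ K n}

/-- The action on cohomology of the derived functor. -/
noncomputable abbrev hR {X Y : DerivedCategory A} (g : X ⟶ Y) (j : ℤ) :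
    (homologyFunctor AddCommGrpCat.{u'} j).obj ((RT G).obj X) →+
      (homologyFunctor AddCommGrpCat.{u'} j).obj ((RT G).obj Y) :=
  ((homologyFunctor AddCommGrpCat.{u'} j).map ((RT G).map g)).hom

omit [IsGrothendieckAbelian.{u} A] [PreservesLimitsOfShape (Discrete ℕ) G] in
theorem hR_comp {X Y Z : DerivedCategory A} (g : X ⟶ Y) (g' : Y ⟶ Z) (j : ℤ)
    (x : (homologyFunctor AddCommGrpCat.{u'} j).obj ((RT G).obj X)) :
    hR G (g ≫ g') j x = hR G g' j (hR G g j x) := by
  simp only [hR, Functor.map_comp]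
  rfl

/-- Cohomology of the derived functor on a derived limit of an eventually constant system. -/
theorem bijective_proj (hL : CohCx.IsRlimVia K t L a) (i : ℤ) (n₀ : ℕ)
    (h : ∀ j : ℤ, i - 1 ≤ j → j ≤ i → ∀ n, n₀ ≤ n → Function.Bijective (hR G (t n) j)) :
    Function.Bijective (hR G (a n₀) i) := by
  obtain ⟨c, hc⟩ := hL
  let d : ∏ᶜ K ⟶ ∏ᶜ K := Pi.lift fun n => Pi.π K n - Pi.π K (n + 1) ≫ t n
  obtain ⟨δ, hδ⟩ := SiteCmpLib.Secs.exists_distinguished_RG G _ hc
  let T := Triangle.mk ((RT G).map (Pi.lift a)) ((RT G).map d) δ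
  obtain ⟨R', _, _, ⟨eR⟩⟩ := SiteCmpLib.Secs.exists_commShift_RG G
  have hadd : ∀ {X Y : DerivedCategory A} (f g : X ⟶ Y), (RT G).map (f - g) = (RT G).map f - (RT G).map g := by
    intro X Y f g
    have := Functor.additive_of_iso eR
    exact (RT G).map_sub
  have hd : ∀ (j : ℤ) (x : (homologyFunctor AddCommGrpCat.{u'} j).obj ((RT G).obj (∏ᶜ K))) (n : ℕ),
      hR G (Pi.π K n) j (hR G d j x) = hR G (Pi.π K n) j x - hR G (t n) j (hR G (Pi.π K (n + 1)) j x) := by
    intro j x n
    rw [← hR_comp, ← hR_comp, show d ≫ Pi.π K n = Pi.π K n - Pi.π K (n + 1) ≫ t n from Pi.lift_π _ _]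
    simp only [hR, hadd, Functor.map_sub]
    rfl
  have ha : ∀ (j : ℤ) (x : (homologyFunctor AddCommGrpCat.{u'} j).obj ((RT G).obj L)) (n : ℕ),
      hR G (Pi.π K n) j (hR G (Pi.lift a) j x) = hR G (a n) j x := by
    intro j x n
    rw [← hR_comp, Pi.lift_π]
  have hp := fun j => bijective_homology_RT_pi G K j
  constructor
  · intro x x' hxx
    refine sub_eq_zero.1 ?_
    have hy : hR G (a n₀) i (x - x') = 0 := by rw [map_sub, sub_eq_zero]; exact hxx
    have hall : ∀ n, hR G (Pi.π K n) i (hR G (Pi.lift a) i (x - x')) = 0 := by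
      have hstep : ∀ n, hR G (t n) i (hR G (a (n + 1)) i (x - x')) = hR G (a n) i (x - x') := fun n => by
        rw [← hR_comp, DLim.rlim_comp_t ⟨c, hc⟩ n]
      intro n
      rw [ha]
      rcases le_or_gt n₀ n with hn | hn
      · obtain ⟨k, rfl⟩ := Nat.exists_eq_add_of_le hn
        induction k with
        | zero => exact hy
        | succ k ih =>
          refine (h i (by omega) le_rfl (n₀ + k) (by omega)).1 ?_
          rw [map_zero]
          exact (hstep (n₀ + k)).trans (ih (by omega))
      · obtain ⟨k, hk⟩ := Nat.exists_eq_add_of_le hn.le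
        induction k generalizing n with
        | zero => obtain rfl : n₀ = n := by omega
                  exact hy
        | succ k ih =>
          rcases Nat.eq_or_lt_of_le hn with h1 | h1
          · subst h1
            exact (hstep n).symm.trans ((congrArg (hR G (t n) i) hy).trans (map_zero _))
          · rw [← hstep n, ih (n + 1) h1 (by omega), map_zero]
    have h0 : hR G (Pi.lift a) i (x - x') = 0 :=
      (hp i).1 (funext fun n => (hall n).trans (map_zero _).symm)
    have hex := (ShortComplex.ab_exact_iff _).1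
      (HomologySequence.exact₁ T hδ (i - 1) i (by omega)) (x - x') h0
    obtain ⟨z, hz⟩ := hex
    obtain ⟨w, hw⟩ := DLim.limOne_of_eventually_surjective n₀
      (fun n => ↥((homologyFunctor AddCommGrpCat.{u'} (i - 1)).obj ((RT G).obj (K n))))
      (fun n => hR G (t n) (i - 1)) (fun n hn => (h (i - 1) le_rfl (by omega) n hn).2)
      (fun n => hR G (Pi.π K n) (i - 1) z)
    obtain ⟨v, hv⟩ := (hp (i - 1)).2 w
    have hzv : hR G d (i - 1) v = z := (hp (i - 1)).1 (funext fun n => by
      show hR G (Pi.π K n) (i - 1) (hR G d (i - 1) v) = hR G (Pi.π K n) (i - 1) z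
      rw [hd]
      exact (congrArg₂ (fun p q => p - hR G (t n) (i - 1) q) (congrFun hv n) (congrFun hv (n + 1))).trans (hw n))
    rw [← hz, ← hzv]
    exact ConcreteCategory.congr_hom (HomologySequence.comp_δ T hδ (i - 1) i (by omega)) v
  · intro y
    classical
    have : ∀ k, ∃ f : ∀ n, n₀ ≤ n → n ≤ n₀ + k → ↥((homologyFunctor AddCommGrpCat.{u'} i).obj ((RT G).obj (K n))),
        f n₀ le_rfl (by omega) = y ∧
        ∀ n (h1 : n₀ ≤ n) (h2 : n + 1 ≤ n₀ + k), hR G (t n) i (f (n + 1) (by omega) h2) = f n h1 (by omega) := by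
      intro k
      induction k with
      | zero => exact ⟨fun n h1 h2 => (show n = n₀ by omega) ▸ y, rfl, fun n h1 h2 => by omega⟩
      | succ k ih =>
        obtain ⟨f, hf, hf'⟩ := ih
        obtain ⟨v, hv⟩ := (h i (by omega) le_rfl (n₀ + k) (by omega)).2 (f (n₀ + k) (by omega) le_rfl)
        refine ⟨fun n h1 h2 => if h3 : n ≤ n₀ + k then f n h1 h3 else (show n = n₀ + k + 1 by omega) ▸ v, ?_,
          fun n h1 h2 => ?_⟩
        · beta_reduce
          rw [dif_pos (show n₀ ≤ n₀ + k by omega)]
          exact hf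
        · beta_reduce
          rw [dif_pos (show n ≤ n₀ + k by omega)]
          by_cases h3 : n + 1 ≤ n₀ + k
          · rw [dif_pos h3]
            exact hf' n h1 h3
          · rw [dif_neg h3]
            obtain rfl : n = n₀ + k := by omega
            exact hv
    choose f hf hf' using this
    have huniq : ∀ k k' n (h1 : n₀ ≤ n) (h2 : n ≤ n₀ + k) (h2' : n ≤ n₀ + k'), f k n h1 h2 = f k' n h1 h2' := by
      intro k k' n h1
      obtain ⟨m, rfl⟩ := Nat.exists_eq_add_of_le h1
      induction m with
      | zero => exact fun _ _ => (hf k).trans (hf k').symm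
      | succ m ih =>
        intro h2 h2'
        exact (h i (by omega) le_rfl (n₀ + m) (by omega)).1
          ((hf' k (n₀ + m) (by omega) h2).trans ((ih (by omega) (by omega) (by omega)).trans
            (hf' k' (n₀ + m) (by omega) h2').symm))
    let g : ∀ j n, n + j = n₀ → ↥((homologyFunctor AddCommGrpCat.{u'} i).obj ((RT G).obj (K n))) := fun j =>
      Nat.rec (fun n hn => (show n₀ = n by simp at hn; omega) ▸ y)
        (fun j gj n hn => hR G (t n) i (gj (n + 1) (by omega))) j
    let x : ∀ n, ↥((homologyFunctor AddCommGrpCat.{u'} i).obj ((RT G).obj (K n))) := fun n =>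
      if hn : n₀ ≤ n then f (n - n₀) n hn (by omega) else g (n₀ - n) n (by omega)
    have hx0 : x n₀ = y := by
      simp only [x, dif_pos le_rfl]
      exact hf _
    have gcongr : ∀ j j' n (h : n + j = n₀) (h' : n + j' = n₀), g j n h = g j' n h' := by
      intro j j' n h h'
      obtain rfl : j = j' := by omega
      rfl
    have hxt : ∀ n, hR G (t n) i (x (n + 1)) = x n := by
      intro n
      by_cases hn : n₀ ≤ n
      · simp only [x, dif_pos hn, dif_pos (show n₀ ≤ n + 1 by omega)]
        exact (hf' (n + 1 - n₀) n hn (by omega)).trans (huniq _ _ _ _ _ _)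
      · by_cases hn1 : n₀ ≤ n + 1
        · obtain rfl : n₀ = n + 1 := by omega
          rw [hx0]
          simp only [x, dif_neg hn]
          exact (gcongr (n + 1 - n) 1 n (by omega) rfl).symm
        · simp only [x, dif_neg hn, dif_neg hn1]
          exact (gcongr (n₀ - n) (n₀ - (n + 1) + 1) n (by omega) (by omega)).symm
    obtain ⟨X, hX⟩ := (hp i).2 x
    have hker : hR G d i X = 0 := (hp i).1 (funext fun n => by
      show hR G (Pi.π K n) i (hR G d i X) = hR G (Pi.π K n) i 0
      rw [map_zero, hd, show hR G (Pi.π K n) i X = x n from congrFun hX n,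
        show hR G (Pi.π K (n + 1)) i X = x (n + 1) from congrFun hX (n + 1), hxt n, sub_self])
    obtain ⟨s, hs⟩ := (ShortComplex.ab_exact_iff _).1 (HomologySequence.exact₂ T hδ i) X hker
    refine ⟨s, ?_⟩
    rw [← ha i s n₀]
    exact (congrArg (hR G (Pi.π K n₀) i) hs).trans ((congrFun hX n₀).trans hx0)

end Tower

variable (N : ℤ) (E : DerivedCategory A)
  (hE : ∀ (q : ℤ) (p : ℕ), N < (p : ℤ) → IsZero ((G.rightDerived p).obj ((homologyFunctor A q).obj E)))
  (hR' : ∀ [HasProduct (CohCx.truncTower E)],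
    CohCx.IsRlimVia (CohCx.truncTower E) (CohCx.truncTowerMap E) E (CohCx.toTruncTower E))

include hE hR' in
/-- The derived functor only sees a truncation in each degree. -/
theorem isIso_homology_RT_truncGE (b i : ℤ) (hi : N + b ≤ i) :
    IsIso ((homologyFunctor AddCommGrpCat.{u'} i).map ((RT G).map (((tS).truncGEπ b).app E))) := by
  let P : ObjectProperty A := fun M => ∀ p : ℕ, N < (p : ℤ) → IsZero ((G.rightDerived p).obj M)
  haveI : P.IsClosedUnderIsomorphisms :=
    ⟨fun e hM p hp => (hM p hp).of_iso ((G.rightDerived p).mapIso e.symm)⟩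
  have hEP : WSerre.cohIn P E := fun q p hp => hE q p hp
  haveI := SiteCmpLib.Secs.hasProduct_truncTower E
  let n₀ := (-b).toNat + (N - i + 1).toNat
  have htr : ∀ j : ℤ, i - 1 ≤ j → j ≤ i → ∀ n, n₀ ≤ n → Function.Bijective (hR G (CohCx.truncTowerMap E n) j) := by
    intro j hj1 hj2 n hn
    haveI := SiteCmpLib.Secs.isIso_homology_RG_trans G P N (fun M hM p hp => hM p hp) E hEP j 1
      (-((n + 1 : ℕ) : ℤ)) (-(n : ℤ)) (by push_cast; ring) (by omega)
    exact ((homologyFunctor AddCommGrpCat.{u'} j).map ((RT G).map (CohCx.truncTowerMap E n)) |> asIso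
      ).addCommGroupIsoToAddEquiv.bijective
  have hb := bijective_proj G hR' i n₀ htr
  haveI : IsIso ((homologyFunctor AddCommGrpCat.{u'} i).map ((RT G).map (CohCx.toTruncTower E n₀))) := by
    rw [ConcreteCategory.isIso_iff_bijective]
    exact hb
  haveI := SiteCmpLib.Secs.isIso_homology_RG_trans G P N (fun M hM p hp => hM p hp) E hEP i
    (b + n₀).toNat (-(n₀ : ℤ)) b (by omega) hi
  rw [← (tS).π_natTransTruncGEOfLE_app (-(n₀ : ℤ)) b (by omega) E, Functor.map_comp, Functor.map_comp]
  exact IsIso.comp_isIso' ‹_› ‹_›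

include hE hR' in
/-- Cohomology above the bound vanishes. -/
theorem isZero_homology_RT (b : ℤ) [E.IsLE b] (i : ℤ) (hi : b + N < i) :
    IsZero ((homologyFunctor AddCommGrpCat.{u'} i).obj ((RT G).obj E)) := by
  haveI := isIso_homology_RT_truncGE G N E hE hR' (i - N) i (by omega)
  refine IsZero.of_iso ?_ (asIso ((homologyFunctor AddCommGrpCat.{u'} i).map
    ((RT G).map (((tS).truncGEπ (i - N)).app E))))
  have hz : IsZero (((tS).truncGE (i - N)).obj E) := by
    haveI := (tS).isLE_of_le E b (i - N - 1) (by omega)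
    exact (tS).isZero_truncGE_obj_of_isLE (i - N - 1) (i - N) (by omega) E
  obtain ⟨R', _, _, ⟨eR⟩⟩ := SiteCmpLib.Secs.exists_commShift_RG G
  exact Functor.map_isZero _ ((R'.map_isZero hz).of_iso (eR.app _).symm)

end Groth.Agent.AlgSpDer
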