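import Groth.Agent.AlgSpMod.EnoughInj
import Groth.Agent.AlgSpMod.AffineVanish
import Groth.Agent.AlgSpMod.ClosedDescent
import Groth.Agent.SiteCmpLib.Secs.Rlim
import Groth.Prelude.Def_AlgSpD
import Mathlib.CategoryTheory.Sites.Equivalence

/-!
# Modules on the small etale site have sections

The small etale site is replaced by an equivalent small category so that the general results on
categories with sections apply to its modules.
-/

set_option autoImplicit false
set_option backward.isDefEq.respectTransparency false
set_option backward.isDefEq.respectTransparency.types false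

universe u

open CategoryTheory CategoryTheory.Limits AlgebraicGeometry Opposite AlgSp
open Groth.Agent Groth.Agent.AlgSpMod Groth.Agent.SiteCmpLib

namespace Groth.Agent.AlgSpDer

variable {S : Scheme.{u}} (X : Sp S)

/-- A small model of the small etale site. -/
abbrev SmEt : Type (u + 1) := AsSmall.{u + 1} (EtOver X)

/-- The equivalence with the small model. -/
noncomputable abbrev eSm : EtOver X ≌ SmEt X := AsSmall.equiv

/-- The topology of the small model. -/
noncomputable abbrev smTop : GrothendieckTopology (SmEt X) := (eSm X).inverse.inducedTopology (etTop X)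

/-- The object of the site of an object of the small model. -/
noncomputable abbrev dn (U : SmEt X) : EtOver X := (eSm X).inverse.obj U

/-- The equivalence of sheaf categories. -/
noncomputable abbrev smSheaf : AbEt X ≌ Sheaf (smTop X) AddCommGrpCat.{u + 1} :=
  Equivalence.sheafCongr (etTop X) (smTop X) (eSm X) AddCommGrpCat.{u + 1}

/-- The free module on an object of the site. -/
noncomputable abbrev freeEt : EtOver X ⥤ ModEt X :=
  uliftYoneda.{u + 1} ⋙ PresheafOfModules.free (OEtRing X).obj ⋙
    PresheafOfModules.sheafification (𝟙 (OEtRing X).obj)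

/-- Morphisms from the free module on an object are sections over it. -/
noncomputable def freeSec (U : EtOver X) (F : ModEt X) : ((freeEt X).obj U ⟶ F) ≃ sectModEt F U :=
  (((PresheafOfModules.sheafificationAdjunction.{u + 1} (R := OEtRing X) (𝟙 (OEtRing X).obj)).homEquiv
    ((PresheafOfModules.free (OEtRing X).obj).obj (uliftYoneda.{u + 1}.obj U)) F).trans
      ((PresheafOfModules.freeAdjunction (OEtRing X).obj).homEquiv (uliftYoneda.{u + 1}.obj U) _)).trans
    uliftYonedaEquiv

theorem freeSec_comp (U : EtOver X) {F G : ModEt X} (φ : (freeEt X).obj U ⟶ F) (g : F ⟶ G) :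
    freeSec X U G (φ ≫ g) = g.val.app (op U) (freeSec X U F φ) := by
  let adj := PresheafOfModules.sheafificationAdjunction.{u + 1} (R := OEtRing X) (𝟙 (OEtRing X).obj)
  let adj' := PresheafOfModules.freeAdjunction (OEtRing X).obj
  refine (congrArg uliftYonedaEquiv
    ((congrArg (adj'.homEquiv _ _) (adj.homEquiv_naturality_right φ g)).trans
      (adj'.homEquiv_naturality_right _ _))).trans ?_
  exact uliftYonedaEquiv_comp _ _

theorem freeSec_map {U V : EtOver X} (f : V ⟶ U) {F : ModEt X} (φ : (freeEt X).obj U ⟶ F) :
    freeSec X V F ((freeEt X).map f ≫ φ) = F.val.map f.op (freeSec X U F φ) := by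
  let adj := PresheafOfModules.sheafificationAdjunction.{u + 1} (R := OEtRing X) (𝟙 (OEtRing X).obj)
  let adj' := PresheafOfModules.freeAdjunction (OEtRing X).obj
  refine (congrArg uliftYonedaEquiv
    ((congrArg (adj'.homEquiv _ _) (adj.homEquiv_naturality_left _ φ)).trans
      (adj'.homEquiv_naturality_left _ _))).trans ?_
  exact (uliftYonedaEquiv_naturality _ f.op).symm

theorem freeSec_add (U : EtOver X) (F : ModEt X) (φ ψ : (freeEt X).obj U ⟶ F) :
    freeSec X U F (φ + ψ) = freeSec X U F φ + freeSec X U F ψ := by
  have key : ∀ χ : (freeEt X).obj U ⟶ F, freeSec X U F χ = χ.val.app (op U) (freeSec X U _ (𝟙 _)) := fun χ =>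
    (congrArg (freeSec X U F) (Category.id_comp χ).symm).trans (freeSec_comp X U (𝟙 _) χ)
  rw [key, key φ, key ψ]
  rfl

theorem toAbEt_reflectsIso : (toAbEt X).ReflectsIsomorphisms where
  reflects {F G} g _ := by
    haveI : Mono g := (toAbEt X).mono_of_mono_map (inferInstanceAs (Mono ((toAbEt X).map g)))
    haveI : Epi g := (toAbEt X).epi_of_epi_map (inferInstanceAs (Epi ((toAbEt X).map g)))
    exact isIso_of_mono_of_epi g

instance smSheaf_additive : (smSheaf X).functor.Additive where
  map_add := rfl

/-- Underlying abelian sheaves on the small model. -/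
noncomputable abbrev smΦ : ModEt X ⥤ Sheaf (smTop X) AddCommGrpCat.{u + 1} := toAbEt X ⋙ (smSheaf X).functor

/-- Modules on the small etale site have sections. -/
noncomputable def modEtSecs : Secs (smTop X) (ModEt X) where
  Φ := smΦ X
  additive := inferInstance
  preservesFiniteLimits := inferInstance
  preservesFiniteColimits := inferInstance
  reflectsIso := haveI := toAbEt_reflectsIso X; inferInstance
  P := (eSm X).inverse ⋙ freeEt X
  sec U F := { freeSec X (dn X U) F with map_add' := freeSec_add X (dn X U) F }
  sec_comp U {F G} φ g := freeSec_comp X (dn X U) φ g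
  sec_map {U V} f {F} φ := freeSec_map X ((eSm X).inverse.map f) φ

/-- The affine objects of the small model. -/
def affSet : Set (SmEt X) := {U | Aff (dn X U)}

theorem mem_smTop_iff {U : SmEt X} (R : Sieve U) : R ∈ smTop X U ↔
    R.functorPushforward (eSm X).inverse ∈ etTop X (dn X U) :=
  (eSm X).inverse.mem_inducedTopology_iff_of_isCoverDense _ R

/-- A covering family of the site is a covering family of the small model. -/
theorem ofArrows_mem_smTop {U : SmEt X} {ι : Type (u + 1)} (Y : ι → EtOver X) (f : ∀ i, Y i ⟶ dn X U)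
    (h : Sieve.ofArrows Y f ∈ etTop X (dn X U)) :
    Sieve.ofArrows (fun i => (eSm X).functor.obj (Y i)) (fun i => show (eSm X).functor.obj (Y i) ⟶ U from ⟨f i⟩) ∈ smTop X U := by
  rw [mem_smTop_iff]
  refine (etTop X).superset_covering ?_ h
  intro V k hk
  obtain ⟨i, a, rfl⟩ := (Sieve.mem_ofArrows_iff _ _ _).1 hk
  exact ⟨(eSm X).functor.obj (Y i), (show (eSm X).functor.obj (Y i) ⟶ U from ⟨f i⟩), a, Sieve.ofArrows_mk _ _ i, rfl⟩

theorem isCoveredBy_affSet : DLim.IsCoveredBy (smTop X) (affSet X) := fun U => by
  obtain ⟨κ, V, h, hV, hcov⟩ := exists_affine_open_cover (dn X U)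
  let ι := ULift.{u + 1} κ
  refine ⟨ι, fun i => (eSm X).functor.obj (V i.down), fun i => ⟨h i.down⟩, ofArrows_mem_smTop X (fun i : ι => V i.down)
    (fun i => h i.down) ((etTop X).superset_covering ?_ hcov), fun i => hV i.down⟩
  intro W k hk
  obtain ⟨i, a, rfl⟩ := (Sieve.mem_ofArrows_iff _ _ _).1 hk
  exact (Sieve.mem_ofArrows_iff _ _ _).2 ⟨⟨i⟩, a, rfl⟩

end Groth.Agent.AlgSpDer
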