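import Groth.Agent.AlgSpDer.OverInj
import Groth.Agent.AlgSpDer.Secs
import Groth.Agent.AlgSpMod.Converse
import Groth.Agent.SiteBase.ExtCompare
import Mathlib.Algebra.Homology.DerivedCategory.Ext.EnoughInjectives

/-!
# Cohomology on the slice over an object of the small etale site
-/

set_option autoImplicit false
set_option backward.isDefEq.respectTransparency false
set_option backward.isDefEq.respectTransparency.types false

universe u

open CategoryTheory CategoryTheory.Limits AlgebraicGeometry Opposite AlgSp Abelian
open Groth.Agent Groth.Agent.AlgSpMod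

namespace Groth.Agent.AlgSpDer

variable {S : Scheme.{u}} {X : Sp S}

/-- Restriction to a slice preserves injective modules. -/
theorem injective_resModEt (E : EtOver X) (I : ModEt X) [Injective I] : Injective ((resModEt E).obj I) := by
  haveI : Injective ((SheafOfModules.forget (OEtRing X) ⋙
      PresheafOfModules.restrictScalars (𝟙 (OEtRing X).obj)).obj I) :=
    Injective.injective_of_adjoint
      (PresheafOfModules.sheafificationAdjunction.{u + 1} (R := OEtRing X) (𝟙 (OEtRing X).obj)) I
  have hP : Injective ((SheafOfModules.forget (OEtOn E)).obj ((resModEt E).obj I)) :=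
    OverInj.injective_pushforward₀.{u + 1} (E := E)
      ((SheafOfModules.forget (OEtRing X) ⋙ PresheafOfModules.restrictScalars (𝟙 (OEtRing X).obj)).obj I)
  refine ⟨fun {A B} g f hf => ?_⟩
  haveI : Mono ((SheafOfModules.forget (OEtOn E)).map f) := inferInstance
  obtain ⟨h, hh⟩ := hP.factors ((SheafOfModules.forget (OEtOn E)).map g) ((SheafOfModules.forget (OEtOn E)).map f)
  exact ⟨⟨h⟩, SheafOfModules.Hom.ext hh⟩

/-- Global sections on the slice are sections over the object. -/
theorem sections_bijective (E : EtOver X) (M : ModEt X) :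
    Function.Bijective (fun s : ((resModEt E).obj M).sections => (show sectModEt M E from s.val (op (base E)))) := by
  refine ⟨fun s t h => PresheafOfModules.sections_ext _ _ fun P => ?_, fun x => ?_⟩
  · have hs := PresheafOfModules.sections_property s
      (Over.homMk P.unop.hom (Category.comp_id _) : P.unop ⟶ base E).op
    have ht := PresheafOfModules.sections_property t
      (Over.homMk P.unop.hom (Category.comp_id _) : P.unop ⟶ base E).op
    refine hs.symm.trans (Eq.trans ?_ ht)
    exact congrArg _ h
  · refine ⟨globSec ((resModEt E).obj M) x, ?_⟩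
    exact congr($(M.val.presheaf.map_id (op E)) x)

/-- Morphisms from the structure sheaf on the slice are sections. -/
noncomputable def unitSec (E : EtOver X) (M : ModEt X) :
    (SheafOfModules.unit (OEtOn E) ⟶ (resModEt E).obj M) ≃ sectModEt M E :=
  ((resModEt E).obj M).unitHomEquiv.trans (Equiv.ofBijective _ (sections_bijective E M))

theorem unitSec_comp (E : EtOver X) {M N : ModEt X} (φ : SheafOfModules.unit (OEtOn E) ⟶ (resModEt E).obj M)
    (g : M ⟶ N) : unitSec E N (φ ≫ (resModEt E).map g) = g.val.app (op E) (unitSec E M φ) := rfl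

theorem unitSec_add (E : EtOver X) (M : ModEt X) (φ ψ : SheafOfModules.unit (OEtOn E) ⟶ (resModEt E).obj M) :
    unitSec E M (φ + ψ) = unitSec E M φ + unitSec E M ψ := rfl

/-- Cohomology on the slice vanishes with extensions from the free module. -/
theorem subsingleton_HEtDOn (E : EtOver X) (M : ModEt X) (n : ℕ)
    (h : ∀ [HasExt.{u + 1} (ModEt X)], ∀ x : Ext ((freeEt X).obj E) M (n + 1), x = 0) :
    Subsingleton (HEtDOn E (DCoh.inDMod (OEtRing X) M) ((n + 1 : ℕ) : ℤ)) := by
  letI := HasDerivedCategory.standard (ModEt X)
  letI := HasDerivedCategory.standard (ModEtOn E)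
  haveI := enoughInjectives_modEt X
  haveI : HasExt.{u + 1} (ModEt X) := hasExt_of_enoughInjectives _
  haveI : HasExt.{u + 2} (ModEtOn E) := HasExt.standard _
  have eadd : ∀ N : ModEt X, ∃ e : ((freeEt X).obj E ⟶ N) ≃+ (SheafOfModules.unit (OEtOn E) ⟶ (resModEt E).obj N),
      ∀ φ, unitSec E N (e φ) = freeSec X E N φ := fun N =>
    ⟨{ (freeSec X E N).trans (unitSec E N).symm with
        map_add' := fun φ ψ => (unitSec E N).injective (by
          show unitSec E N ((unitSec E N).symm (freeSec X E N (φ + ψ))) =
            unitSec E N ((unitSec E N).symm (freeSec X E N φ) + (unitSec E N).symm (freeSec X E N ψ))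
          rw [unitSec_add, Equiv.apply_symm_apply, Equiv.apply_symm_apply, Equiv.apply_symm_apply, freeSec_add]) },
      fun φ => (unitSec E N).apply_symm_apply _⟩
  choose e he using eadd
  obtain ⟨a⟩ := SiteBase.nonempty_ext_addEquiv (resModEt E) ((freeEt X).obj E) (SheafOfModules.unit (OEtOn E))
    (fun _ hS => hS.map_of_exact (resModEt E))
    (fun I hI q => haveI := @injective_resModEt _ _ E I hI; Ext.subsingleton_of_injective _ _ q)
    e
    (fun A B φ g => (unitSec E B).injective (by rw [he, unitSec_comp, he, freeSec_comp]))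
    (n + 1) M
  haveI : Subsingleton (Ext ((freeEt X).obj E) M (n + 1)) := subsingleton_of_forall_eq 0 h
  haveI : Subsingleton (Ext (SheafOfModules.unit (OEtOn E)) ((resModEt E).obj M) (n + 1)) :=
    a.symm.toEquiv.subsingleton
  have hs : Subsingleton (DCoh.inDMod (OEtOn E) (SheafOfModules.unit (OEtOn E)) ⟶
      ((DerivedCategory.singleFunctor (ModEtOn E) 0).obj ((resModEt E).obj M))⟦((n + 1 : ℕ) : ℤ)⟧) :=
    Ext.homEquiv.symm.subsingleton
  refine subsingleton_of_forall_eq 0 fun φ => ?_
  let i := (shiftFunctor _ ((n + 1 : ℕ) : ℤ)).mapIso (((resModEt E).mapDerivedCategorySingleFunctor 0).app M)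
  exact (cancel_mono i.hom).1 (@Subsingleton.elim _ hs _ _)

end Groth.Agent.AlgSpDer
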